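import Mathlib

/-!
# Pullback lemmas for the smooth bootstrap (helper2)
-/

set_option autoImplicit false
set_option maxHeartbeats 4000000
set_option synthInstance.maxHeartbeats 400000
set_option linter.style.haveILetI false
set_option linter.unusedSectionVars false
set_option linter.unusedVariables false
set_option linter.unusedSimpArgs false
set_option linter.unnecessarySimpa false

open CategoryTheory CategoryTheory.Limits AlgebraicGeometry

namespace Groth.Agent.Helper2.SmBoot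

universe u

theorem isPullback_of_existsUnique' {C : Type*} [Category C] {P X Y Z : C} {fst : P ⟶ X}
    {snd : P ⟶ Y} {f : X ⟶ Z} {g : Y ⟶ Z} (w : fst ≫ f = snd ≫ g)
    (hex : ∀ {A : C} (α : A ⟶ X) (β : A ⟶ Y), α ≫ f = β ≫ g →
      ∃ l : A ⟶ P, l ≫ fst = α ∧ l ≫ snd = β)
    (huniq : ∀ {A : C} (l l' : A ⟶ P), l ≫ fst = l' ≫ fst → l ≫ snd = l' ≫ snd → l = l') :
    IsPullback fst snd f g := by
  refine ⟨⟨w⟩, ⟨PullbackCone.IsLimit.mk w
    (fun s => (hex s.fst s.snd s.condition).choose)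
    (fun s => (hex s.fst s.snd s.condition).choose_spec.1)
    (fun s => (hex s.fst s.snd s.condition).choose_spec.2) ?_⟩⟩
  intro s m h1 h2
  exact huniq _ _ (h1.trans (hex s.fst s.snd s.condition).choose_spec.1.symm)
    (h2.trans (hex s.fst s.snd s.condition).choose_spec.2.symm)

/-- The slice square: `E = N ×_{P₀} R₁` is the base change of `R₁ ⟶ R` to `W = Z ×_U R`. -/
theorem isPullback_slice {C : Type*} [Category C] {U₁ P₀ N U R R₁ Z E W : C}
    (α : U₁ ⟶ P₀) (ν : N ⟶ P₀) (ιU : U₁ ⟶ U) [Mono ιU] (s : R ⟶ U) (ιR : R₁ ⟶ R)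
    (σ : R₁ ⟶ U₁) (hσ : ιR ≫ s = σ ≫ ιU)
    {zU : Z ⟶ U₁} {zN : Z ⟶ N} (sqZ : IsPullback zU zN α ν)
    {eN : E ⟶ N} {eR : E ⟶ R₁} (sqE : IsPullback eN eR ν (σ ≫ α))
    {wZ : W ⟶ Z} {wR : W ⟶ R} (sqW : IsPullback wZ wR (zU ≫ ιU) s)
    (k₁ : E ⟶ Z) (hk₁U : k₁ ≫ zU = eR ≫ σ) (hk₁N : k₁ ≫ zN = eN)
    (j : E ⟶ W) (hjZ : j ≫ wZ = k₁) (hjR : j ≫ wR = eR ≫ ιR) :
    IsPullback j eR wR ιR := by
  refine isPullback_of_existsUnique' hjR ?_ ?_
  · intro X xW xR hx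
    have hx' : xW ≫ wR ≫ s = xR ≫ ιR ≫ s := by
      have := hx =≫ s
      simpa only [Category.assoc] using this
    have h1 : xW ≫ wZ ≫ zU = xR ≫ σ := by
      rw [← cancel_mono ιU]
      simp only [Category.assoc]
      rw [sqW.w, hx', hσ]
    have h2 : (xW ≫ wZ ≫ zN) ≫ ν = xR ≫ σ ≫ α := by
      have h3 : (xW ≫ wZ ≫ zN) ≫ ν = (xW ≫ wZ ≫ zU) ≫ α := by
        simp only [Category.assoc, sqZ.w]
      rw [h3, h1, Category.assoc]
    refine ⟨sqE.lift (xW ≫ wZ ≫ zN) xR h2, ?_, sqE.lift_snd _ _ _⟩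
    apply sqW.hom_ext
    · simp only [Category.assoc]
      rw [hjZ]
      apply sqZ.hom_ext
      · simp only [Category.assoc]
        rw [hk₁U, ← Category.assoc, sqE.lift_snd, h1]
      · simp only [Category.assoc]
        rw [hk₁N, sqE.lift_fst]
    · simp only [Category.assoc]
      rw [hjR, ← Category.assoc, sqE.lift_snd, hx]
  · intro X l l' h1 h2
    apply sqE.hom_ext
    · have h3 : ∀ m : X ⟶ E, m ≫ eN = (m ≫ j) ≫ wZ ≫ zN := by
        intro m
        rw [Category.assoc, ← Category.assoc j, hjZ, hk₁N]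
      rw [h3 l, h3 l', h1]
    · exact h2

theorem exists_point_of_isPullback {P X Y Z : Scheme.{u}} {fst : P ⟶ X} {snd : P ⟶ Y}
    {f : X ⟶ Z} {g : Y ⟶ Z} (sq : IsPullback fst snd f g) (x : X) (y : Y) (h : f x = g y) :
    ∃ z : P, fst z = x ∧ snd z = y := by
  obtain ⟨z, hz1, hz2⟩ := Scheme.Pullback.exists_preimage_pullback x y h
  refine ⟨sq.isoPullback.inv z, ?_, ?_⟩
  · rw [← Scheme.Hom.comp_apply, sq.isoPullback_inv_fst]; exact hz1
  · rw [← Scheme.Hom.comp_apply, sq.isoPullback_inv_snd]; exact hz2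

/-- Étaleness of the slice chart. -/
theorem etale_of_slice_pullback {S₀ U₁ P₀ P₁ N R₁ X : Scheme.{u}} (γ₀ : P₀ ⟶ S₀) (β : U₁ ⟶ S₀)
    (ρ : P₁ ⟶ P₀) (π : P₁ ⟶ U₁) (sqP : IsPullback ρ π γ₀ β) (ν : N ⟶ P₀) [Etale (ν ≫ γ₀)]
    (φ : R₁ ⟶ P₁) [Etale φ] (x : X ⟶ N) (y : X ⟶ R₁) (sqX : IsPullback x y ν (φ ≫ ρ)) :
    Etale (y ≫ φ ≫ π) := by
  have sqT : IsPullback (pullback.fst ν ρ) (pullback.snd ν ρ) ν ρ := IsPullback.of_hasPullback ν ρ
  have sq1 : IsPullback (pullback.fst ν ρ) (pullback.snd ν ρ ≫ π) (ν ≫ γ₀) β :=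
    sqT.paste_vert sqP
  haveI h1 : Etale (pullback.snd ν ρ ≫ π) :=
    MorphismProperty.of_isPullback (P := @Etale) sq1 inferInstance
  have hc : x ≫ ν = (y ≫ φ) ≫ ρ := by rw [Category.assoc]; exact sqX.w
  have sq2 : IsPullback (pullback.lift x (y ≫ φ) hc) y (pullback.snd ν ρ) φ := by
    refine IsPullback.of_right ?_ (pullback.lift_snd _ _ _) sqT
    rw [pullback.lift_fst]
    exact sqX
  haveI h2 : Etale (pullback.lift x (y ≫ φ) hc) :=
    MorphismProperty.of_isPullback (P := @Etale) sq2.flip inferInstance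
  have e : y ≫ φ ≫ π = pullback.lift x (y ≫ φ) hc ≫ pullback.snd ν ρ ≫ π := by
    rw [← Category.assoc, ← Category.assoc, pullback.lift_snd]
  rw [e]
  infer_instance

end Groth.Agent.Helper2.SmBoot
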