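import Mathlib
import Groth.Agent.Lib.Helper2.AlgSp.Basic
import Groth.Agent.Lib.Helper2.AlgSp.Diag
import Groth.Agent.Lib.Helper2.AlgSp.Descent
import Groth.Agent.Lib.Helper2.AlgSp.SourceFppfSmooth
import Groth.Agent.Lib.Helper2.SmBoot.PullbackEt

/-!
# A slice which is étale near the identity is étale (helper2)

`c₀ : h_U ⟶ F` smooth surjective, `g : Z ⟶ U`, `W = Z ×_F U`, and `E ⊆ W` open, étale over `U`
and surjective onto `Z`: then `Z ⟶ F` is étale.
-/

set_option autoImplicit false
set_option maxHeartbeats 4000000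
set_option synthInstance.maxHeartbeats 400000
set_option linter.style.haveILetI false
set_option linter.unusedSectionVars false
set_option linter.unusedVariables false
set_option linter.unusedSimpArgs false
set_option linter.unnecessarySimpa false

open CategoryTheory CategoryTheory.Limits AlgebraicGeometry Opposite AlgSp

namespace Groth.Agent.Helper2.SmBoot

open Groth.Agent.Helper2.AlgSpBasic Groth.Agent.Helper2.EtaleLocal

universe u

variable {S : Scheme.{u}}

theorem smooth_le_flat : (@Smooth : MorphismProperty Scheme.{u}) ≤ @Flat := by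
  intro _ _ f hf
  haveI : Smooth f := hf
  infer_instance

theorem smooth_le_lfp :
    (@Smooth : MorphismProperty Scheme.{u}) ≤ @LocallyOfFinitePresentation := by
  intro _ _ f hf
  haveI : Smooth f := hf
  infer_instance

instance smooth_isMultiplicative :
    MorphismProperty.IsMultiplicative (@Smooth : MorphismProperty Scheme.{u}) where
  id_mem _ := inferInstance
  comp_mem _ _ hf hg := by
    haveI := hf
    haveI := hg
    infer_instance

/-- Joint monicity of the projections of a fibre product over a sheaf, at the level of schemes. -/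
theorem left_hom_ext_of_isPullback {F : Sp S} {A B P : Over S} {a : (yon S).obj A ⟶ F}
    {b : (yon S).obj B ⟶ F} {p₁ : P ⟶ A} {p₂ : P ⟶ B}
    (sq : IsPullback ((yon S).map p₁) ((yon S).map p₂) a b) {X : Scheme.{u}} (x y : X ⟶ P.left)
    (h₁ : x ≫ p₁.left = y ≫ p₁.left) (h₂ : x ≫ p₂.left = y ≫ p₂.left) : x = y := by
  have hy : y ≫ P.hom = x ≫ P.hom := by
    rw [← Over.w p₁, ← Category.assoc, ← Category.assoc, h₁]
  obtain ⟨x', hx'⟩ : ∃ x' : Over.mk (x ≫ P.hom) ⟶ P, x'.left = x := ⟨Over.homMk x rfl, rfl⟩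
  obtain ⟨y', hy'⟩ : ∃ y' : Over.mk (x ≫ P.hom) ⟶ P, y'.left = y := ⟨Over.homMk y hy, rfl⟩
  have hxy : x' = y' := by
    apply (yon S).map_injective
    apply sq.hom_ext
    · rw [← (yon S).map_comp, ← (yon S).map_comp]
      congr 1
      apply Over.OverMorphism.ext
      rw [Over.comp_left, Over.comp_left, hx', hy']
      exact h₁
    · rw [← (yon S).map_comp, ← (yon S).map_comp]
      congr 1
      apply Over.OverMorphism.ext
      rw [Over.comp_left, Over.comp_left, hx', hy']
      exact h₂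
  rw [← hx', ← hy', hxy]

set_option backward.isDefEq.respectTransparency.types false in
theorem repWith_etale_of_slice {F : Sp S} (hdiag : Representable (Limits.diag F))
    {U Z W E : Over S} (c₀ : (yon S).obj U ⟶ F) (hsm : RepWith @Smooth c₀)
    (hsurj : RepWith @Surjective c₀) (g : Z ⟶ U) (q₁ : W ⟶ Z) (h : W ⟶ U)
    (sqW : IsPullback ((yon S).map q₁) ((yon S).map h) ((yon S).map g ≫ c₀) c₀)
    (j : E ⟶ W) [IsOpenImmersion j.left] [Etale (j ≫ h).left] [Surjective (j ≫ q₁).left] :
    RepWith @Etale ((yon S).map g ≫ c₀) := by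
  obtain ⟨a, ha⟩ : ∃ a : (yon S).obj Z ⟶ F, a = (yon S).map g ≫ c₀ := ⟨_, rfl⟩
  rw [← ha] at sqW ⊢
  have harep : Representable a := Functor.relativelyRepresentable.of_diag hdiag a
  haveI : Sheaf.IsLocallySurjective c₀ := isLocallySurjective_of_fppf c₀
    (repWith_mono smooth_le_flat hsm) (repWith_mono smooth_le_lfp hsm) hsurj
  haveI hq₁ : Smooth q₁.left := hsm.property a ((yon S).map h) q₁ sqW.flip
  haveI hk₀sm : Smooth (j ≫ q₁).left := by
    rw [Over.comp_left]
    infer_instance
  -- (i) `h` is smooth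
  haveI hh : Smooth h.left := by
    obtain ⟨Pₒ, p₁, p₂, hp₂, sqPo⟩ : ∃ (Pₒ : Over S) (p₁ : Pₒ ⟶ E) (p₂ : Pₒ ⟶ W),
        (Surjective p₂.left ∧ Smooth p₂.left) ∧
        IsPullback ((yon S).map p₁) ((yon S).map p₂) ((yon S).map (j ≫ q₁)) ((yon S).map q₁) := by
      have hc : pullback.fst (j ≫ q₁).left q₁.left ≫ E.hom =
          pullback.snd (j ≫ q₁).left q₁.left ≫ W.hom := by
        rw [← Over.w (j ≫ q₁), ← Over.w q₁, ← Category.assoc, ← Category.assoc,
          pullback.condition]
      refine ⟨Over.mk (pullback.snd (j ≫ q₁).left q₁.left ≫ W.hom),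
        Over.homMk (pullback.fst (j ≫ q₁).left q₁.left) hc,
        Over.homMk (pullback.snd (j ≫ q₁).left q₁.left) rfl,
        ⟨(inferInstance : Surjective (pullback.snd (j ≫ q₁).left q₁.left)),
          (inferInstance : Smooth (pullback.snd (j ≫ q₁).left q₁.left))⟩, ?_⟩
      apply yon_isPullback_of_left
      exact IsPullback.of_hasPullback (j ≫ q₁).left q₁.left
    have sq1 := sqPo.flip.paste_horiz sqW.flip
    have heq : (yon S).map (j ≫ q₁) ≫ a = (yon S).map (j ≫ h) ≫ c₀ := by
      rw [(yon S).map_comp, (yon S).map_comp, Category.assoc, Category.assoc, sqW.w]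
    have hsmE : RepWith @Smooth ((yon S).map (j ≫ h) ≫ c₀) :=
      repWith_comp @Smooth ((repWith_yon_map_iff @Smooth _).2
        (by
          show Smooth (j ≫ h).left
          infer_instance)) hsm
    have sq2 : IsPullback ((yon S).map p₁) ((yon S).map (p₂ ≫ h)) ((yon S).map (j ≫ h) ≫ c₀)
        c₀ := by
      rw [← heq, (yon S).map_comp]
      exact sq1.flip
    have hsmP : Smooth (p₂ ≫ h).left := hsmE.property c₀ ((yon S).map p₁) (p₂ ≫ h) sq2
    haveI : Smooth (p₂.left ≫ h.left) := hsmP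
    haveI : Surjective p₂.left := hp₂.1
    haveI : Smooth p₂.left := hp₂.2
    exact Groth.Agent.Helper3.FppfDesc.smooth_of_fppf_cover p₂.left h.left
  have hsma : RepWith @Smooth a :=
    repWith_of_isLocallySurjective_base a harep c₀ _ ((yon S).map q₁) ((yon S).map h) sqW @Smooth
      ((repWith_yon_map_iff @Smooth h).2 hh)
  -- the fibre square of `a`
  obtain ⟨Q, κ₁, κ₂, sqQ⟩ := exists_isPullback_yon hdiag a a
  haveI hκ₂ : Smooth κ₂.left := hsma.property a ((yon S).map κ₁) κ₂ sqQ
  obtain ⟨Δ, hΔ⟩ := (yon S).map_surjective (sqQ.lift (𝟙 _) (𝟙 _) rfl)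
  have hΔ₁ : Δ ≫ κ₁ = 𝟙 Z := (yon S).map_injective (by
    rw [(yon S).map_comp, hΔ, sqQ.lift_fst, (yon S).map_id])
  have hΔ₂ : Δ ≫ κ₂ = 𝟙 Z := (yon S).map_injective (by
    rw [(yon S).map_comp, hΔ, sqQ.lift_snd, (yon S).map_id])
  have hΔ₁l : Δ.left ≫ κ₁.left = 𝟙 Z.left := by
    rw [← Over.comp_left, hΔ₁]
    rfl
  have hΔ₂l : Δ.left ≫ κ₂.left = 𝟙 Z.left := by
    rw [← Over.comp_left, hΔ₂]
    rfl
  -- `W ×_U W`
  obtain ⟨W₂, φ₁, φ₂, sqW₂l⟩ : ∃ (W₂ : Over S) (φ₁ φ₂ : W₂ ⟶ W),
      IsPullback φ₁.left φ₂.left h.left h.left := by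
    have hc : pullback.snd h.left h.left ≫ W.hom = pullback.fst h.left h.left ≫ W.hom := by
      rw [← Over.w h, ← Category.assoc, ← Category.assoc, pullback.condition]
    exact ⟨Over.mk (pullback.fst h.left h.left ≫ W.hom),
      Over.homMk (pullback.fst h.left h.left) rfl,
      Over.homMk (pullback.snd h.left h.left) hc, IsPullback.of_hasPullback h.left h.left⟩
  have hφ : φ₁ ≫ h = φ₂ ≫ h := Over.OverMorphism.ext sqW₂l.w
  have sqW₂ := yon_isPullback_of_left φ₁ φ₂ h h sqW₂l
  have hprc : (yon S).map (φ₁ ≫ q₁) ≫ a = (yon S).map (φ₂ ≫ q₁) ≫ a := by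
    rw [(yon S).map_comp, (yon S).map_comp, Category.assoc, Category.assoc, sqW.w,
      ← Category.assoc, ← Category.assoc, ← (yon S).map_comp, ← (yon S).map_comp, hφ]
  obtain ⟨pr, hpr⟩ := (yon S).map_surjective (sqQ.lift _ _ hprc)
  have hpr₁ : pr ≫ κ₁ = φ₁ ≫ q₁ := (yon S).map_injective (by
    rw [(yon S).map_comp, hpr, sqQ.lift_fst])
  have hpr₂ : pr ≫ κ₂ = φ₂ ≫ q₁ := (yon S).map_injective (by
    rw [(yon S).map_comp, hpr, sqQ.lift_snd])
  have hpr₁l : pr.left ≫ κ₁.left = φ₁.left ≫ q₁.left := by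
    rw [← Over.comp_left, hpr₁]
    rfl
  have hpr₂l : pr.left ≫ κ₂.left = φ₂.left ≫ q₁.left := by
    rw [← Over.comp_left, hpr₂]
    rfl
  have hyφ₁ : ∀ {A : Sp S} (m : A ⟶ (yon S).obj W₂),
      (m ≫ (yon S).map φ₁) ≫ (yon S).map q₁ = (m ≫ (yon S).map pr) ≫ (yon S).map κ₁ := by
    intro A m
    rw [Category.assoc, Category.assoc, ← (yon S).map_comp, ← (yon S).map_comp, hpr₁]
  have hyφ₂ : ∀ {A : Sp S} (m : A ⟶ (yon S).obj W₂),
      (m ≫ (yon S).map φ₂) ≫ (yon S).map q₁ = (m ≫ (yon S).map pr) ≫ (yon S).map κ₂ := by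
    intro A m
    rw [Category.assoc, Category.assoc, ← (yon S).map_comp, ← (yon S).map_comp, hpr₂]
  have sqPr : IsPullback ((yon S).map pr) ((yon S).map (φ₁ ≫ h)) ((yon S).map κ₁ ≫ a) c₀ := by
    refine isPullback_of_existsUnique' ?_ ?_ ?_
    · rw [← Category.assoc, ← (yon S).map_comp, hpr₁, (yon S).map_comp, Category.assoc, sqW.w,
        ← Category.assoc, ← (yon S).map_comp]
    · intro A α β hαβ
      have c1 : (α ≫ (yon S).map κ₁) ≫ a = β ≫ c₀ := by
        rw [Category.assoc]
        exact hαβ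
      have c2 : (α ≫ (yon S).map κ₂) ≫ a = β ≫ c₀ := by
        rw [Category.assoc, ← sqQ.w]
        exact hαβ
      have c3 : sqW.lift (α ≫ (yon S).map κ₁) β c1 ≫ (yon S).map h =
          sqW.lift (α ≫ (yon S).map κ₂) β c2 ≫ (yon S).map h := by
        rw [sqW.lift_snd, sqW.lift_snd]
      refine ⟨sqW₂.lift _ _ c3, ?_, ?_⟩
      · apply sqQ.hom_ext
        · rw [← hyφ₁, sqW₂.lift_fst, sqW.lift_fst]
        · rw [← hyφ₂, sqW₂.lift_snd, sqW.lift_fst]
      · rw [(yon S).map_comp, ← Category.assoc, sqW₂.lift_fst, sqW.lift_snd]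
    · intro A l l' h1 h2
      have h2' : (l ≫ (yon S).map φ₁) ≫ (yon S).map h = (l' ≫ (yon S).map φ₁) ≫ (yon S).map h := by
        rw [Category.assoc, Category.assoc, ← (yon S).map_comp]
        exact h2
      have h2'' : (l ≫ (yon S).map φ₂) ≫ (yon S).map h =
          (l' ≫ (yon S).map φ₂) ≫ (yon S).map h := by
        rw [Category.assoc, Category.assoc, ← (yon S).map_comp, ← hφ]
        exact h2
      apply sqW₂.hom_ext
      · apply sqW.hom_ext
        · rw [hyφ₁, hyφ₁, h1]
        · exact h2'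
      · apply sqW.hom_ext
        · rw [hyφ₂, hyφ₂, h1]
        · exact h2''
  haveI hprsm : Smooth pr.left :=
    hsm.property ((yon S).map κ₁ ≫ a) ((yon S).map (φ₁ ≫ h)) pr sqPr.flip
  -- the open part
  haveI hetE : Etale (j.left ≫ h.left) := ‹Etale (j ≫ h).left›
  haveI hsurjE : Surjective (j.left ≫ q₁.left) := ‹Surjective (j ≫ q₁).left›
  obtain ⟨j₂, hj₂f₁, hj₂f₂, hj₂oi⟩ :
      ∃ j₂ : pullback (j.left ≫ h.left) (j.left ≫ h.left) ⟶ W₂.left,
      j₂ ≫ φ₁.left = pullback.fst (j.left ≫ h.left) (j.left ≫ h.left) ≫ j.left ∧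
      j₂ ≫ φ₂.left = pullback.snd (j.left ≫ h.left) (j.left ≫ h.left) ≫ j.left ∧
      IsOpenImmersion j₂ := by
    haveI h1 : IsOpenImmersion (pullback.map (j.left ≫ h.left) (j.left ≫ h.left) h.left h.left
        j.left j.left (𝟙 _) ((Category.comp_id _).trans rfl) ((Category.comp_id _).trans rfl)) :=
      MorphismProperty.pullbackMap (P := @IsOpenImmersion) (f := j.left ≫ h.left)
        (g := j.left ≫ h.left) (f' := h.left) (g' := h.left) (i₁ := j.left) (i₂ := j.left)
        inferInstance inferInstance rfl rfl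
    refine ⟨pullback.map (j.left ≫ h.left) (j.left ≫ h.left) h.left h.left
        j.left j.left (𝟙 _) ((Category.comp_id _).trans rfl) ((Category.comp_id _).trans rfl) ≫
        sqW₂l.isoPullback.inv, ?_, ?_, ?_⟩
    · rw [Category.assoc, sqW₂l.isoPullback_inv_fst]
      exact pullback.lift_fst _ _ _
    · rw [Category.assoc, sqW₂l.isoPullback_inv_snd]
      exact pullback.lift_snd _ _ _
    · infer_instance
  haveI := hj₂oi
  have hcomm : (j.left ≫ q₁.left) ≫ Δ.left =
      pullback.diagonal (j.left ≫ h.left) ≫ j₂ ≫ pr.left := by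
    apply left_hom_ext_of_isPullback sqQ
    · have e1 : (pullback.diagonal (j.left ≫ h.left) ≫ j₂ ≫ pr.left) ≫ κ₁.left =
          j.left ≫ q₁.left := by
        rw [Category.assoc, Category.assoc, hpr₁l, ← Category.assoc j₂, hj₂f₁, Category.assoc,
          ← Category.assoc, pullback.diagonal_fst, Category.id_comp]
      have e2 : ((j.left ≫ q₁.left) ≫ Δ.left) ≫ κ₁.left = j.left ≫ q₁.left := by
        rw [Category.assoc, hΔ₁l, Category.comp_id]
      exact e2.trans e1.symm
    · have e1 : (pullback.diagonal (j.left ≫ h.left) ≫ j₂ ≫ pr.left) ≫ κ₂.left =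
          j.left ≫ q₁.left := by
        rw [Category.assoc, Category.assoc, hpr₂l, ← Category.assoc j₂, hj₂f₂, Category.assoc,
          ← Category.assoc, pullback.diagonal_snd, Category.id_comp]
      have e2 : ((j.left ≫ q₁.left) ≫ Δ.left) ≫ κ₂.left = j.left ≫ q₁.left := by
        rw [Category.assoc, hΔ₂l, Category.comp_id]
      exact e2.trans e1.symm
  haveI : Flat ((j.left ≫ q₁.left) ≫ Δ.left) := by
    rw [hcomm]
    infer_instance
  haveI hΔfl : Flat Δ.left := flat_of_flat_comp_of_surjective (j.left ≫ q₁.left) Δ.left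
  haveI hΔlfp : LocallyOfFinitePresentation Δ.left :=
    Groth.Agent.Helper2.locallyOfFinitePresentation_of_comp Δ.left κ₂.left inferInstance (by
      rw [hΔ₂l]
      infer_instance)
  haveI hΔmono : Mono Δ.left := mono_of_mono_fac hΔ₂l
  haveI hΔoi : IsOpenImmersion Δ.left := IsOpenImmersion.of_flat_of_mono _
  -- the diagonal of `h`
  have sqΔ : IsPullback q₁.left (sqW₂l.lift (𝟙 W.left) (𝟙 W.left) rfl) Δ.left pr.left := by
    refine isPullback_of_existsUnique' ?_ ?_ ?_
    · apply left_hom_ext_of_isPullback sqQ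
      · rw [Category.assoc, Category.assoc, hΔ₁l, hpr₁l, ← Category.assoc, sqW₂l.lift_fst,
          Category.id_comp, Category.comp_id]
      · rw [Category.assoc, Category.assoc, hΔ₂l, hpr₂l, ← Category.assoc, sqW₂l.lift_snd,
          Category.id_comp, Category.comp_id]
    · intro X xZ x₂ hx
      have e1 : (x₂ ≫ φ₁.left) ≫ q₁.left = xZ := by
        rw [Category.assoc, ← hpr₁l, ← Category.assoc, ← hx, Category.assoc, hΔ₁l,
          Category.comp_id]
      have e2 : (x₂ ≫ φ₂.left) ≫ q₁.left = xZ := by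
        rw [Category.assoc, ← hpr₂l, ← Category.assoc, ← hx, Category.assoc, hΔ₂l,
          Category.comp_id]
      have hf : x₂ ≫ φ₁.left = x₂ ≫ φ₂.left := by
        apply left_hom_ext_of_isPullback sqW
        · rw [e1, e2]
        · rw [Category.assoc, Category.assoc, sqW₂l.w]
      refine ⟨x₂ ≫ φ₁.left, e1, ?_⟩
      apply sqW₂l.hom_ext
      · rw [Category.assoc, sqW₂l.lift_fst, Category.comp_id]
      · rw [Category.assoc, sqW₂l.lift_snd, Category.comp_id, hf]
    · intro X l l' _ h2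
      have h3 := congrArg (fun m => m ≫ φ₁.left) h2
      simp only [Category.assoc, sqW₂l.lift_fst, Category.comp_id] at h3
      exact h3
  haveI hdiagoi : IsOpenImmersion (sqW₂l.lift (𝟙 W.left) (𝟙 W.left) rfl) :=
    MorphismProperty.of_isPullback (P := @IsOpenImmersion) sqΔ inferInstance
  have hdiageq : pullback.diagonal h.left =
      sqW₂l.lift (𝟙 W.left) (𝟙 W.left) rfl ≫ sqW₂l.isoPullback.hom := by
    apply pullback.hom_ext
    · rw [pullback.diagonal_fst, Category.assoc, sqW₂l.isoPullback_hom_fst, sqW₂l.lift_fst]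
    · rw [pullback.diagonal_snd, Category.assoc, sqW₂l.isoPullback_hom_snd, sqW₂l.lift_snd]
  haveI : IsOpenImmersion (pullback.diagonal h.left) := by
    rw [hdiageq]
    infer_instance
  haveI : FormallyUnramified h.left := inferInstance
  haveI : Etale h.left := Etale.of_formallyUnramified_of_flat h.left
  exact repWith_of_isLocallySurjective_base a harep c₀ _ ((yon S).map q₁) ((yon S).map h) sqW
    @Etale ((repWith_yon_map_iff @Etale h).2 inferInstance)

end Groth.Agent.Helper2.SmBoot
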