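import Mathlib
import Groth.Agent.Lib.Helper2.Ring.EtNbhd

/-!
# Étale multi-sections of affine space through a given open subset of a fibre (helper2)

A version of `exists_etale_point` after base change to an arbitrary field: for an `A`-field `K`
and a nonempty open `V` of affine space over `K` there is an étale `A`-algebra `N` with an
`N`-point of affine space meeting `V`.
-/

set_option autoImplicit false
set_option maxHeartbeats 4000000
set_option synthInstance.maxHeartbeats 400000
set_option linter.style.haveILetI false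
set_option linter.unusedSectionVars false
set_option linter.unusedVariables false
set_option linter.unusedSimpArgs false
set_option linter.unnecessarySimpa false

open TensorProduct Polynomial

namespace Groth.Agent.Helper2.SmBoot

open Groth.Agent.Helper2.RingLib

universe u

section Residue

variable {A : Type u} [CommRing A] {K : Type u} [Field K] [Algebra A K] {F : Type u} [Field F]
  [Algebra A F] [Algebra K F] [IsScalarTower A K F]

theorem infinite_setOf_liftable' [IsAlgClosed F]
    (hK : ∀ x : K, ∃ a b : A, algebraMap A K b ≠ 0 ∧ x = algebraMap A K a / algebraMap A K b) :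
    {ω : F | Liftable A F ω}.Infinite := by
  rcases finite_or_infinite K with hfin | hinf
  · haveI : IsAlgClosed (algebraicClosure K F) :=
      (algebraicClosure.isAlgClosure (F := K) (E := F)).isAlgClosed
    haveI : Infinite (algebraicClosure K F) := inferInstance
    refine Set.infinite_of_injective_forall_mem (f := fun m : algebraicClosure K F => (m : F))
      Subtype.val_injective ?_
    intro m
    have hint : IsIntegral K (m : F) := mem_algebraicClosure_iff'.mp m.2
    exact liftable_of_isSeparable hK _
      (PerfectField.separable_of_irreducible (minpoly.irreducible hint))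
  · exact Set.infinite_of_injective_forall_mem (algebraMap K F).injective
      (fun x => liftable_of_frac hK x)

end Residue

theorem exists_etale_point_field (A : Type u) [CommRing A] (K : Type u) [Field K] [Algebra A K]
    (n : ℕ) (V : Set (PrimeSpectrum (MvPolynomial (Fin n) K))) (hV : IsOpen V)
    (hne : V.Nonempty) :
    ∃ (N : Type u) (_ : CommRing N) (_ : Algebra A N) (_ : Algebra.Etale A N) (ν : Fin n → N)
      (p' : PrimeSpectrum N) (x : PrimeSpectrum (MvPolynomial (Fin n) K)), x ∈ V ∧
      PrimeSpectrum.comap (MvPolynomial.aeval ν : MvPolynomial (Fin n) A →ₐ[A] N).toRingHom p' =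
        PrimeSpectrum.comap (MvPolynomial.map (algebraMap A K)) x := by
  obtain ⟨r, hr⟩ := hne
  obtain ⟨_, ⟨h, rfl⟩, hrh, hsub⟩ :=
    PrimeSpectrum.isTopologicalBasis_basic_opens.exists_subset_of_mem_open hr hV
  have hh0 : h ≠ 0 := by
    intro h0
    apply hrh
    rw [h0]
    exact r.asIdeal.zero_mem
  let F := AlgebraicClosure K
  let 𝔭 : Ideal A := RingHom.ker (algebraMap A K)
  haveI : 𝔭.IsPrime := RingHom.ker_isPrime _
  let K₀ := 𝔭.ResidueField
  have hK : ∀ x : K₀, ∃ a b : A, algebraMap A K₀ b ≠ 0 ∧
      x = algebraMap A K₀ a / algebraMap A K₀ b := by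
    intro x
    obtain ⟨a, b, hb, rfl⟩ := IsFractionRing.div_surjective (A := A ⧸ 𝔭) x
    obtain ⟨a, rfl⟩ := Ideal.Quotient.mk_surjective a
    obtain ⟨b, rfl⟩ := Ideal.Quotient.mk_surjective b
    refine ⟨a, b, ?_, rfl⟩
    have : algebraMap (A ⧸ 𝔭) K₀ (Ideal.Quotient.mk _ b) ≠ 0 :=
      IsFractionRing.to_map_ne_zero_of_mem_nonZeroDivisors hb
    exact this
  have hι₀ : Function.Injective (RingHom.kerLift (algebraMap A K)) :=
    RingHom.kerLift_injective (algebraMap A K)
  let ι : K₀ →+* K := IsFractionRing.lift (A := A ⧸ 𝔭) (K := K₀) hι₀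
  have hι : ∀ a : A, ι (algebraMap A K₀ a) = algebraMap A K a := by
    intro a
    have h1 : algebraMap A K₀ a = algebraMap (A ⧸ 𝔭) K₀ (Ideal.Quotient.mk 𝔭 a) := rfl
    rw [h1]
    exact IsFractionRing.lift_algebraMap hι₀ _
  letI : Algebra K₀ F := ((algebraMap K F).comp ι).toAlgebra
  haveI : IsScalarTower A K₀ F := IsScalarTower.of_algebraMap_eq fun a => by
    show algebraMap A F a = (algebraMap K F) (ι (algebraMap A K₀ a))
    rw [hι, ← IsScalarTower.algebraMap_apply]
  let hF : MvPolynomial (Fin n) F := MvPolynomial.map (algebraMap K F) h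
  have hF0 : hF ≠ 0 := by
    intro h0
    apply hh0
    exact MvPolynomial.map_injective _ (algebraMap K F).injective (h0.trans (map_zero _).symm)
  have hinf := infinite_setOf_liftable' (A := A) (K := K₀) (F := F) hK
  obtain ⟨x, hx, hne⟩ : ∃ x : Fin n → F, (∀ i, Liftable A F (x i)) ∧
      MvPolynomial.eval x hF ≠ 0 := by
    by_contra hcon
    push Not at hcon
    apply hF0
    refine MvPolynomial.funext_set (fun _ => {ω : F | Liftable A F ω}) (fun _ => hinf)
      (fun x hx => ?_)
    rw [map_zero]
    exact hcon x (fun i => hx i (Set.mem_univ i))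
  obtain ⟨N, _, _, _, pt, ν, hν⟩ := liftableFam_of_forall x hx
  have hxν : (fun i => pt (ν i)) = x := funext hν
  refine ⟨N, inferInstance, inferInstance, inferInstance, ν,
    ⟨RingHom.ker pt.toRingHom, RingHom.ker_isPrime _⟩,
    ⟨RingHom.ker (MvPolynomial.aeval x : MvPolynomial (Fin n) K →ₐ[K] F).toRingHom,
      RingHom.ker_isPrime _⟩, ?_, ?_⟩
  · apply hsub
    show h ∉ RingHom.ker (MvPolynomial.aeval x : MvPolynomial (Fin n) K →ₐ[K] F).toRingHom
    rw [RingHom.mem_ker]
    show (MvPolynomial.aeval x : MvPolynomial (Fin n) K →ₐ[K] F) h ≠ 0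
    rw [MvPolynomial.aeval_def, MvPolynomial.eval₂_eq_eval_map]
    exact hne
  · ext g
    show pt (MvPolynomial.aeval ν g) = 0 ↔
      (MvPolynomial.aeval x : MvPolynomial (Fin n) K →ₐ[K] F)
        (MvPolynomial.map (algebraMap A K) g) = 0
    have h1 : pt (MvPolynomial.aeval ν g) = MvPolynomial.aeval x g := by
      rw [← AlgHom.comp_apply, MvPolynomial.comp_aeval, hxν]
    have h2 : (MvPolynomial.aeval x : MvPolynomial (Fin n) K →ₐ[K] F)
        (MvPolynomial.map (algebraMap A K) g) = MvPolynomial.aeval x g :=
      MvPolynomial.aeval_map_algebraMap K x g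
    rw [h1, h2]

end Groth.Agent.Helper2.SmBoot
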