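import Mathlib
import Groth.Agent.Lib.Helper6.EtaleCoord

/-!
# Étale coordinates on a smooth algebra coming from a second, jointly epimorphic, ring map
(helper2)

`B` is a smooth `A`-algebra (structure map `τ`), and `σ : A →+* B` is a second ring map such that
`σ`, `τ` are jointly epimorphic.  Then `Ω[B⁄A]` is spanned by the `d (σ a)`, and near every prime of
`B` there are `a₁, …, a_d` such that `A[X₁, …, X_d] ⟶ B_r`, `X_i ↦ σ a_i`, is étale.
-/

set_option autoImplicit false
set_option maxHeartbeats 4000000
set_option synthInstance.maxHeartbeats 400000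
set_option linter.style.haveILetI false
set_option linter.unusedSectionVars false
set_option linter.unusedVariables false
set_option linter.unusedSimpArgs false
set_option linter.unnecessarySimpa false

open TensorProduct KaehlerDifferential

namespace Groth.Agent.Helper2.SmBoot

universe u

section

variable {A B : Type u} [CommRing A] [CommRing B] [Algebra A B]

/-- `σ` and the structure map are jointly epimorphic. -/
def JointEpi (σ : A →+* B) : Prop :=
  ∀ (C : Type u) [CommRing C] (f₁ f₂ : B →+* C), f₁.comp σ = f₂.comp σ →
    f₁.comp (algebraMap A B) = f₂.comp (algebraMap A B) → f₁ = f₂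

theorem span_D_of_jointEpi (σ : A →+* B) (hepi : JointEpi σ) :
    Submodule.span B (Set.range (fun a : A => D A B (σ a))) = ⊤ := by
  let B₀ : Subalgebra A B := Algebra.adjoin A (Set.range σ)
  have hunr : Algebra.FormallyUnramified B₀ B := by
    rw [Algebra.FormallyUnramified.iff_comp_injective]
    intro C _ _ I hI f₁ f₂ _
    have h := hepi C f₁.toRingHom f₂.toRingHom ?_ ?_
    · exact AlgHom.coe_ringHom_injective h
    · ext a
      show f₁ (σ a) = f₂ (σ a)
      have h1 : σ a = algebraMap B₀ B ⟨σ a, Algebra.subset_adjoin ⟨a, rfl⟩⟩ := rfl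
      rw [h1, f₁.commutes, f₂.commutes]
    · ext a
      show f₁ (algebraMap A B a) = f₂ (algebraMap A B a)
      rw [IsScalarTower.algebraMap_apply A B₀ B, f₁.commutes, f₂.commutes]
  have hrange : LinearMap.range (mapBaseChange A B₀ B) = ⊤ := by
    rw [KaehlerDifferential.range_mapBaseChange, LinearMap.ker_eq_top]
    exact Subsingleton.elim _ _
  obtain ⟨N, hN⟩ : ∃ N : Submodule B (Ω[B⁄A]),
      N = Submodule.span B (Set.range (fun a : A => D A B (σ a))) := ⟨_, rfl⟩
  rw [← hN]
  have hmem : ∀ x ∈ B₀, D A B x ∈ N := by
    intro x hx
    induction hx using Algebra.adjoin_induction with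
    | mem x hx =>
      obtain ⟨a, rfl⟩ := hx
      rw [hN]
      exact Submodule.subset_span ⟨a, rfl⟩
    | algebraMap r =>
      rw [Derivation.map_algebraMap]
      exact N.zero_mem
    | add x y _ _ hx hy =>
      rw [map_add]
      exact N.add_mem hx hy
    | mul x y _ _ hx hy =>
      rw [Derivation.leibniz]
      exact N.add_mem (N.smul_mem _ hy) (N.smul_mem _ hx)
  rw [eq_top_iff]
  rintro ω -
  have hω : ω ∈ LinearMap.range (mapBaseChange A B₀ B) := by
    rw [hrange]
    exact Submodule.mem_top
  obtain ⟨y, rfl⟩ := hω
  induction y using TensorProduct.induction_on with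
  | zero =>
    rw [map_zero]
    exact N.zero_mem
  | tmul b ω' =>
    rw [mapBaseChange_tmul]
    apply N.smul_mem
    have hω' : ω' ∈ Submodule.span B₀ (Set.range (D A B₀)) := by
      rw [span_range_derivation]
      exact Submodule.mem_top
    induction hω' using Submodule.span_induction with
    | mem z hz =>
      obtain ⟨x, rfl⟩ := hz
      rw [map_D]
      exact hmem _ x.2
    | zero =>
      rw [map_zero]
      exact N.zero_mem
    | add z₁ z₂ _ _ h1 h2 =>
      rw [map_add]
      exact N.add_mem h1 h2
    | smul c z _ h =>
      rw [map_smul, ← algebraMap_smul B c]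
      exact N.smul_mem _ h
  | add y₁ y₂ h1 h2 =>
    rw [map_add]
    exact N.add_mem h1 h2

/-- Étale coordinates near a prime. -/
theorem exists_etale_coords [Algebra.Smooth A B] (σ : A →+* B) (hepi : JointEpi σ)
    (q : Ideal B) [q.IsPrime] :
    ∃ (d : ℕ) (a : Fin d → A) (r : B), r ∉ q ∧
      (MvPolynomial.aeval (R := A)
        (fun i => algebraMap B (Localization.Away r) (σ (a i))) :
          MvPolynomial (Fin d) A →ₐ[A] Localization.Away r).toRingHom.Etale := by
  have hspan := span_D_of_jointEpi σ hepi
  have hspan' : Submodule.span (Localization.AtPrime q)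
      (Set.range (fun a : A => map A A B (Localization.AtPrime q) (D A B (σ a)))) = ⊤ := by
    have h1 := span_eq_top_of_isLocalizedModule (Localization.AtPrime q) q.primeCompl
      (map A A B (Localization.AtPrime q))
      (v := Set.range (fun a : A => D A B (σ a))) hspan
    rw [← Set.range_comp] at h1
    exact h1
  obtain ⟨κ, a, b, hb⟩ := Module.exists_basis_of_span_of_flat
    (fun a : A => map A A B (Localization.AtPrime q) (D A B (σ a))) hspan'
  haveI : Finite κ := Module.Finite.finite_basis b
  obtain ⟨d, ⟨e⟩⟩ : ∃ d : ℕ, Nonempty (κ ≃ Fin d) := Finite.exists_equiv_fin κ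
  let a' : Fin d → A := fun i => a (e.symm i)
  let b' := b.reindex e
  have hfam : (fun i : Fin d => D A (Localization.AtPrime q)
      (algebraMap B (Localization.AtPrime q) (σ (a' i)))) = ⇑b' := by
    funext i
    rw [Module.Basis.reindex_apply, hb, map_D]
  have hp : Function.Bijective (Finsupp.linearCombination (Localization.AtPrime q)
      (fun i : Fin d => D A (Localization.AtPrime q)
        (algebraMap B (Localization.AtPrime q) (σ (a' i))))) := by
    rw [hfam, ← Module.Basis.coe_repr_symm]
    exact b'.repr.symm.bijective
  obtain ⟨r, hr, hbij⟩ := Groth.Agent.Lib.Helper6.EtaleCoord.exists_bijective_away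
    (k := A) (R := B) q (fun i => σ (a' i)) hp
  have hbij' := hbij r dvd_rfl
  refine ⟨d, a', r, hr, ?_⟩
  obtain ⟨f, hf⟩ : ∃ f : MvPolynomial (Fin d) A →ₐ[A] Localization.Away r,
      f = MvPolynomial.aeval (R := A)
        (fun i => algebraMap B (Localization.Away r) (σ (a' i))) := ⟨_, rfl⟩
  rw [← hf]
  letI : Algebra (MvPolynomial (Fin d) A) (Localization.Away r) := f.toRingHom.toAlgebra
  haveI : IsScalarTower A (MvPolynomial (Fin d) A) (Localization.Away r) :=
    IsScalarTower.of_algebraMap_eq' f.comp_algebraMap.symm
  haveI : Algebra.FormallySmooth B (Localization.Away r) :=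
    Algebra.FormallySmooth.of_isLocalization (Submonoid.powers r)
  haveI : Algebra.FormallySmooth A (Localization.Away r) :=
    Algebra.FormallySmooth.comp A B (Localization.Away r)
  have hX : ∀ i, algebraMap (MvPolynomial (Fin d) A) (Localization.Away r) (MvPolynomial.X i) =
      algebraMap B (Localization.Away r) (σ (a' i)) := by
    intro i
    show f (MvPolynomial.X i) = _
    rw [hf, MvPolynomial.aeval_X]
  have hfam2 : (fun i : Fin d => D A (Localization.Away r)
      (algebraMap (MvPolynomial (Fin d) A) (Localization.Away r) (MvPolynomial.X i))) =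
      fun i : Fin d => D A (Localization.Away r)
        (algebraMap B (Localization.Away r) (σ (a' i))) := by
    funext i
    rw [hX i]
  haveI : Algebra.FormallyEtale (MvPolynomial (Fin d) A) (Localization.Away r) :=
    Groth.Agent.Lib.Helper6.EtaleCoord.formallyEtale_of_basis (k := A)
      (T := Localization.Away r) (ι := Fin d) (by rw [hfam2]; exact hbij')
  haveI : Algebra.FinitePresentation B (Localization.Away r) :=
    IsLocalization.Away.finitePresentation r
  haveI : Algebra.FinitePresentation A (Localization.Away r) :=
    Algebra.FinitePresentation.trans A B (Localization.Away r)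
  haveI : Algebra.FinitePresentation (MvPolynomial (Fin d) A) (Localization.Away r) :=
    Algebra.FinitePresentation.of_restrict_scalars_finitePresentation A _ _
  have hE : Algebra.Etale (MvPolynomial (Fin d) A) (Localization.Away r) :=
    ⟨inferInstance, inferInstance⟩
  exact RingHom.etale_algebraMap.mpr hE

end

end Groth.Agent.Helper2.SmBoot
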