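import Mathlib
import Groth.Agent.Lib.Helper2.SmBoot.RingCoord
import Groth.Agent.Lib.Helper2.SmBoot.EtPointField
import Groth.Agent.Lib.Helper2.SmBoot.PullbackEt

/-!
# The affine slice (helper2)

For ring maps `σ, τ : A ⟶ B` over `A₀` with `τ` smooth and `σ, τ` jointly epimorphic, and a prime
`q` of `B`, there are a principal open `D(r) ∋ q`, and a map `ν : N ⟶ P₀` with a map
`α : Spec A ⟶ P₀` such that the fibre product of `ν` with `Spec B_r ⟶ Spec A ⟶ P₀` (through `σ`)
is étale over `Spec A` through `τ`, and hits the image of `q`.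
-/

set_option autoImplicit false
set_option maxHeartbeats 4000000
set_option synthInstance.maxHeartbeats 400000
set_option linter.style.haveILetI false
set_option linter.unusedSectionVars false
set_option linter.unusedVariables false
set_option linter.unusedSimpArgs false
set_option linter.unnecessarySimpa false

open CategoryTheory CategoryTheory.Limits AlgebraicGeometry

namespace Groth.Agent.Helper2.SmBoot

universe u

attribute [local instance] MvPolynomial.algebraMvPolynomial

theorem exists_affine_slice (A₀ A B : Type u) [CommRing A₀] [CommRing A] [CommRing B]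
    (β : A₀ →+* A) (σ τ : A →+* B) (hβ : σ.comp β = τ.comp β) (hτ : τ.Smooth)
    (hepi : ∀ (C : Type u) [CommRing C] (f₁ f₂ : B →+* C), f₁.comp σ = f₂.comp σ →
      f₁.comp τ = f₂.comp τ → f₁ = f₂)
    (q : PrimeSpectrum B) :
    ∃ (r : B) (P₀ N : Scheme.{u}) (α : Spec (CommRingCat.of A) ⟶ P₀) (ν : N ⟶ P₀),
      r ∉ q.asIdeal ∧
      (∀ (X : Scheme.{u}) (x : X ⟶ N) (y : X ⟶ Spec (CommRingCat.of (Localization.Away r))),
        IsPullback x y ν
          (Spec.map (CommRingCat.ofHom ((algebraMap B (Localization.Away r)).comp σ)) ≫ α) →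
        Etale (y ≫ Spec.map (CommRingCat.ofHom ((algebraMap B (Localization.Away r)).comp τ)))) ∧
      ∃ (n : N) (r₁ : Spec (CommRingCat.of (Localization.Away r))),
        ν n = (Spec.map (CommRingCat.ofHom ((algebraMap B (Localization.Away r)).comp σ)) ≫ α) r₁ ∧
        Spec.map (CommRingCat.ofHom ((algebraMap B (Localization.Away r)).comp τ)) r₁ =
          Spec.map (CommRingCat.ofHom τ) (q : Spec (CommRingCat.of B)) := by
  letI : Algebra A B := τ.toAlgebra
  haveI : Algebra.Smooth A B := hτ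
  have hepi' : JointEpi (A := A) (B := B) σ := fun C _ f₁ f₂ h1 h2 => hepi C f₁ f₂ h1 h2
  haveI : q.asIdeal.IsPrime := q.isPrime
  obtain ⟨d, a, r, hr, hf⟩ := exists_etale_coords σ hepi' q.asIdeal
  obtain ⟨f, hfdef⟩ : ∃ f : MvPolynomial (Fin d) A →+* Localization.Away r,
      f = (MvPolynomial.aeval (R := A) (fun i => algebraMap B (Localization.Away r) (σ (a i))) :
        MvPolynomial (Fin d) A →ₐ[A] Localization.Away r).toRingHom := ⟨_, rfl⟩
  rw [← hfdef] at hf
  have hfC : f.comp MvPolynomial.C = (algebraMap B (Localization.Away r)).comp τ := by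
    ext x
    rw [hfdef]
    show (MvPolynomial.aeval (R := A) (fun i => algebraMap B (Localization.Away r) (σ (a i))))
      (MvPolynomial.C x) = algebraMap B _ (τ x)
    rw [MvPolynomial.aeval_C]
    exact IsScalarTower.algebraMap_apply A B (Localization.Away r) x
  have hfX : ∀ i, f (MvPolynomial.X i) = algebraMap B (Localization.Away r) (σ (a i)) := by
    intro i
    rw [hfdef]
    exact MvPolynomial.aeval_X _ i
  have hfmap : f.comp (MvPolynomial.map β) =
      ((algebraMap B (Localization.Away r)).comp σ).comp (MvPolynomial.eval₂Hom β a) := by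
    apply MvPolynomial.ringHom_ext
    · intro x
      have h1 : f (MvPolynomial.C (β x)) = (algebraMap B _) (τ (β x)) :=
        RingHom.congr_fun hfC (β x)
      have h2 : τ (β x) = σ (β x) := (RingHom.congr_fun hβ x).symm
      simp only [RingHom.comp_apply, MvPolynomial.map_C, MvPolynomial.eval₂Hom_C]
      rw [h1, h2]
    · intro i
      simp only [RingHom.comp_apply, MvPolynomial.map_X, MvPolynomial.eval₂Hom_X']
      exact hfX i
  -- schemes
  obtain ⟨φ, hφdef⟩ : ∃ φ : Spec (CommRingCat.of (Localization.Away r)) ⟶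
      Spec (CommRingCat.of (MvPolynomial (Fin d) A)), φ = Spec.map (CommRingCat.ofHom f) :=
    ⟨_, rfl⟩
  haveI hφ : Etale φ := by
    rw [hφdef]
    exact (HasRingHomProperty.Spec_iff (P := @Etale)).mpr hf
  obtain ⟨π, hπdef⟩ : ∃ π : Spec (CommRingCat.of (MvPolynomial (Fin d) A)) ⟶
      Spec (CommRingCat.of A),
      π = Spec.map (CommRingCat.ofHom (MvPolynomial.C : A →+* MvPolynomial (Fin d) A)) :=
    ⟨_, rfl⟩
  obtain ⟨ρ, hρdef⟩ : ∃ ρ : Spec (CommRingCat.of (MvPolynomial (Fin d) A)) ⟶
      Spec (CommRingCat.of (MvPolynomial (Fin d) A₀)),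
      ρ = Spec.map (CommRingCat.ofHom (MvPolynomial.map β :
        MvPolynomial (Fin d) A₀ →+* MvPolynomial (Fin d) A)) := ⟨_, rfl⟩
  obtain ⟨γ₀, hγ₀def⟩ : ∃ γ₀ : Spec (CommRingCat.of (MvPolynomial (Fin d) A₀)) ⟶
      Spec (CommRingCat.of A₀),
      γ₀ = Spec.map (CommRingCat.ofHom (MvPolynomial.C : A₀ →+* MvPolynomial (Fin d) A₀)) :=
    ⟨_, rfl⟩
  obtain ⟨β', hβ'def⟩ : ∃ β' : Spec (CommRingCat.of A) ⟶ Spec (CommRingCat.of A₀),
      β' = Spec.map (CommRingCat.ofHom β) := ⟨_, rfl⟩
  obtain ⟨α, hαdef⟩ : ∃ α : Spec (CommRingCat.of A) ⟶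
      Spec (CommRingCat.of (MvPolynomial (Fin d) A₀)),
      α = Spec.map (CommRingCat.ofHom (MvPolynomial.eval₂Hom β a)) := ⟨_, rfl⟩
  have sqP : IsPullback ρ π γ₀ β' := by
    letI : Algebra A₀ A := β.toAlgebra
    have h := CommRingCat.isPushout_of_isPushout A₀ A (MvPolynomial (Fin d) A₀)
      (MvPolynomial (Fin d) A)
    rw [hρdef, hπdef, hγ₀def, hβ'def]
    exact (isPullback_SpecMap_of_isPushout _ _ _ _ h).flip
  have hφπ : φ ≫ π =
      Spec.map (CommRingCat.ofHom ((algebraMap B (Localization.Away r)).comp τ)) := by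
    rw [hφdef, hπdef, ← Spec.map_comp]
    congr 1
    ext x
    simp only [CommRingCat.hom_comp, CommRingCat.hom_ofHom, RingHom.coe_comp, Function.comp_apply]
    exact RingHom.congr_fun hfC x
  have hφρ : φ ≫ ρ =
      Spec.map (CommRingCat.ofHom ((algebraMap B (Localization.Away r)).comp σ)) ≫ α := by
    rw [hφdef, hρdef, hαdef, ← Spec.map_comp, ← Spec.map_comp]
    congr 1
    apply CommRingCat.hom_ext
    simp only [CommRingCat.hom_comp, CommRingCat.hom_ofHom]
    exact hfmap
  -- the point of `Spec B_r` over `q`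
  obtain ⟨q', hq'⟩ : q ∈ Set.range (PrimeSpectrum.comap (algebraMap B (Localization.Away r))) := by
    rw [PrimeSpectrum.localization_away_comap_range (Localization.Away r) r]
    exact hr
  obtain ⟨p, hpdef⟩ : ∃ p : PrimeSpectrum A, p = PrimeSpectrum.comap τ q := ⟨_, rfl⟩
  have hτq' : (φ ≫ π) (q' : Spec (CommRingCat.of (Localization.Away r))) = p := by
    rw [hφπ, hpdef, ← hq']
    rfl
  obtain ⟨K, _, κ, hκ⟩ : ∃ (K : Type u) (_ : Field K) (κ : A →+* K),
      RingHom.ker κ = p.asIdeal :=
    ⟨p.asIdeal.ResidueField, inferInstance, algebraMap _ _, Ideal.ker_algebraMap_residueField _⟩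
  obtain ⟨V, hVdef⟩ : ∃ V : Set (PrimeSpectrum (MvPolynomial (Fin d) K)),
      V = PrimeSpectrum.comap (MvPolynomial.map κ) ⁻¹' (Set.range φ) := ⟨_, rfl⟩
  have hV : IsOpen V := by
    rw [hVdef]
    exact (PrimeSpectrum.continuous_comap _).isOpen_preimage _ φ.isOpenMap.isOpen_range
  have hne : V.Nonempty := by
    letI : Algebra A K := κ.toAlgebra
    have hpo := CommRingCat.isPushout_of_isPushout A K (MvPolynomial (Fin d) A)
      (MvPolynomial (Fin d) K)
    have sqK := isPullback_SpecMap_of_isPushout _ _ _ _ hpo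
    have hpt : (Spec.map (CommRingCat.ofHom (algebraMap A K)))
        ((⟨⊥, Ideal.isPrime_bot⟩ : PrimeSpectrum K) : Spec (CommRingCat.of K)) =
        (Spec.map (CommRingCat.ofHom (algebraMap A (MvPolynomial (Fin d) A))))
          (φ (q' : Spec (CommRingCat.of (Localization.Away r)))) := by
      have e2 : (Spec.map (CommRingCat.ofHom (algebraMap A (MvPolynomial (Fin d) A))))
          (φ (q' : Spec (CommRingCat.of (Localization.Away r)))) = p := by
        rw [← hτq', hπdef]
        rfl
      rw [e2]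
      apply PrimeSpectrum.ext
      show Ideal.comap κ ⊥ = p.asIdeal
      rw [← hκ]
      rfl
    obtain ⟨z, hz1, hz2⟩ := exists_point_of_isPullback sqK _ _ hpt
    refine ⟨z, ?_⟩
    rw [hVdef]
    exact ⟨q', hz2.symm⟩
  letI : Algebra A₀ K := (κ.comp β).toAlgebra
  obtain ⟨N, _, _, _, ν, p', x, hxV, hx⟩ := exists_etale_point_field A₀ K d V hV hne
  rw [hVdef] at hxV
  obtain ⟨r₁, hr₁⟩ := hxV
  obtain ⟨ν', hν'def⟩ : ∃ ν' : Spec (CommRingCat.of N) ⟶
      Spec (CommRingCat.of (MvPolynomial (Fin d) A₀)),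
      ν' = Spec.map (CommRingCat.ofHom
        (MvPolynomial.aeval ν : MvPolynomial (Fin d) A₀ →ₐ[A₀] N).toRingHom) := ⟨_, rfl⟩
  have hν'γ : ν' ≫ γ₀ = Spec.map (CommRingCat.ofHom (algebraMap A₀ N)) := by
    rw [hν'def, hγ₀def, ← Spec.map_comp]
    congr 1
    ext x
    simp only [CommRingCat.hom_comp, CommRingCat.hom_ofHom, RingHom.coe_comp, Function.comp_apply]
    exact MvPolynomial.aeval_C ν x
  haveI : Etale (ν' ≫ γ₀) := by
    rw [hν'γ]
    exact (HasRingHomProperty.Spec_iff (P := @Etale)).mpr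
      (RingHom.etale_algebraMap.mpr inferInstance)
  refine ⟨r, _, _, α, ν', hr, ?_, ?_⟩
  · intro X x y sq
    rw [← hφρ] at sq
    have h1 := etale_of_slice_pullback γ₀ β' ρ π sqP ν' φ x y sq
    rw [hφπ] at h1
    exact h1
  · refine ⟨p', r₁, ?_, ?_⟩
    · rw [← hφρ, Scheme.Hom.comp_apply]
      have hmm : (MvPolynomial.map κ).comp (MvPolynomial.map β) =
          (MvPolynomial.map (κ.comp β) : MvPolynomial (Fin d) A₀ →+* MvPolynomial (Fin d) K) :=
        RingHom.ext fun g => MvPolynomial.map_map β κ g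
      have h1 : ν' (p' : Spec (CommRingCat.of N)) =
          PrimeSpectrum.comap (MvPolynomial.map (κ.comp β)) x := by
        rw [hν'def]
        exact hx
      have h2 : ρ (φ r₁) = PrimeSpectrum.comap (MvPolynomial.map β)
          (PrimeSpectrum.comap (MvPolynomial.map κ) x) := by
        rw [hr₁, hρdef]
        rfl
      rw [h1, h2, ← hmm]
      rfl
    · rw [← hφπ, Scheme.Hom.comp_apply]
      have h2 : π (φ r₁) = PrimeSpectrum.comap (MvPolynomial.C : A →+* MvPolynomial (Fin d) A)
          (PrimeSpectrum.comap (MvPolynomial.map κ) x) := by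
        rw [hr₁, hπdef]
        rfl
      rw [h2]
      apply PrimeSpectrum.ext
      show Ideal.comap MvPolynomial.C (Ideal.comap (MvPolynomial.map κ) x.asIdeal) =
        Ideal.comap τ q.asIdeal
      have h3 : Ideal.comap (MvPolynomial.C : A →+* MvPolynomial (Fin d) A)
          (Ideal.comap (MvPolynomial.map κ) x.asIdeal) =
          Ideal.comap κ (Ideal.comap (MvPolynomial.C : K →+* MvPolynomial (Fin d) K)
            x.asIdeal) := by
        rw [Ideal.comap_comap, Ideal.comap_comap]
        congr 1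
        ext y
        simp only [RingHom.comp_apply, MvPolynomial.map_C]
      haveI : x.asIdeal.IsPrime := x.isPrime
      haveI hpr : (Ideal.comap (MvPolynomial.C : K →+* MvPolynomial (Fin d) K)
          x.asIdeal).IsPrime := Ideal.comap_isPrime _ _
      have h4 : Ideal.comap (MvPolynomial.C : K →+* MvPolynomial (Fin d) K) x.asIdeal = ⊥ := by
        rcases Ideal.eq_bot_or_top (Ideal.comap (MvPolynomial.C : K →+* MvPolynomial (Fin d) K)
          x.asIdeal) with h | h
        · exact h
        · exact absurd h hpr.ne_top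
      rw [h3, h4, ← RingHom.ker_eq_comap_bot, hκ, hpdef]
      rfl

end Groth.Agent.Helper2.SmBoot
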