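import Mathlib
import Groth.Agent.Lib.Helper2.SmBoot.AffSlice

/-!
# Slices of a smooth equivalence relation (helper2)

`s, t : R ⟶ U` over `S`, jointly monomorphic, `t` smooth, with a common section `e`.  Through every
point `u₀` of `U` there is a "slice" `g : Z ⟶ U` and an open `E` of `Z ×_{g, U, s} R` which is étale
over `U` through `t` and whose image contains `u₀`.
-/

set_option autoImplicit false
set_option maxHeartbeats 4000000
set_option synthInstance.maxHeartbeats 400000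
set_option linter.style.haveILetI false
set_option linter.unusedSectionVars false
set_option linter.unusedVariables false
set_option linter.unusedSimpArgs false
set_option linter.unnecessarySimpa false

open CategoryTheory CategoryTheory.Limits AlgebraicGeometry

namespace Groth.Agent.Helper2.SmBoot

universe u

set_option backward.isDefEq.respectTransparency.types false in
theorem exists_slice {S U R : Scheme.{u}} (πU : U ⟶ S) (s t : R ⟶ U) (e : U ⟶ R)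
    (hs : s ≫ πU = t ≫ πU) (hes : e ≫ s = 𝟙 U) (het : e ≫ t = 𝟙 U) [Smooth t]
    (hmono : ∀ ⦃X : Scheme.{u}⦄ (f g : X ⟶ R), f ≫ s = g ≫ s → f ≫ t = g ≫ t → f = g)
    (u₀ : U) :
    ∃ (Z E : Scheme.{u}) (g : Z ⟶ U) (k₁ : E ⟶ Z) (k₂ : E ⟶ R) (hk : k₁ ≫ g = k₂ ≫ s),
      IsOpenImmersion (pullback.lift k₁ k₂ hk) ∧ Etale (k₂ ≫ t) ∧
        u₀ ∈ Set.range (k₂ ≫ t) := by
  obtain ⟨_, ⟨S₀, hS₀, rfl⟩, hS₀mem, -⟩ := S.isBasis_affineOpens.exists_subset_of_mem_open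
    (show πU u₀ ∈ ((⊤ : S.Opens) : Set S) from trivial) (⊤ : S.Opens).2
  obtain ⟨_, ⟨U₁, hU₁, rfl⟩, hU₁mem, hU₁le'⟩ := U.isBasis_affineOpens.exists_subset_of_mem_open
    (show u₀ ∈ ((πU ⁻¹ᵁ S₀ : U.Opens) : Set U) from hS₀mem) (πU ⁻¹ᵁ S₀).2
  have hU₁le : U₁ ≤ πU ⁻¹ᵁ S₀ := hU₁le'
  have hmemR : e u₀ ∈ ((s ⁻¹ᵁ U₁ ⊓ t ⁻¹ᵁ U₁ : R.Opens) : Set R) := by
    constructor
    · show s (e u₀) ∈ U₁
      rw [← Scheme.Hom.comp_apply, hes]
      exact hU₁mem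
    · show t (e u₀) ∈ U₁
      rw [← Scheme.Hom.comp_apply, het]
      exact hU₁mem
  obtain ⟨_, ⟨R₁, hR₁, rfl⟩, hR₁mem, hR₁le'⟩ := R.isBasis_affineOpens.exists_subset_of_mem_open
    hmemR (s ⁻¹ᵁ U₁ ⊓ t ⁻¹ᵁ U₁).2
  have hR₁le : R₁ ≤ s ⁻¹ᵁ U₁ ⊓ t ⁻¹ᵁ U₁ := hR₁le'
  have hRs : R₁ ≤ s ⁻¹ᵁ U₁ := hR₁le.trans inf_le_left
  have hRt : R₁ ≤ t ⁻¹ᵁ U₁ := hR₁le.trans inf_le_right
  -- ring maps
  obtain ⟨σ, hσ⟩ : ∃ σ : Γ(U, U₁) →+* Γ(R, R₁), σ = (s.appLE U₁ R₁ hRs).hom := ⟨_, rfl⟩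
  obtain ⟨τ, hτ⟩ : ∃ τ : Γ(U, U₁) →+* Γ(R, R₁), τ = (t.appLE U₁ R₁ hRt).hom := ⟨_, rfl⟩
  obtain ⟨β, hβdef⟩ : ∃ β : Γ(S, S₀) →+* Γ(U, U₁), β = (πU.appLE S₀ U₁ hU₁le).hom := ⟨_, rfl⟩
  have eσ : Spec.map (CommRingCat.ofHom σ) ≫ hU₁.fromSpec = hR₁.fromSpec ≫ s := by
    rw [hσ]
    exact IsAffineOpen.SpecMap_appLE_fromSpec s hU₁ hR₁ hRs
  have eτ : Spec.map (CommRingCat.ofHom τ) ≫ hU₁.fromSpec = hR₁.fromSpec ≫ t := by
    rw [hτ]
    exact IsAffineOpen.SpecMap_appLE_fromSpec t hU₁ hR₁ hRt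
  have hβ : σ.comp β = τ.comp β := by
    have h1 := Scheme.Hom.appLE_comp_appLE s πU S₀ U₁ R₁ hU₁le hRs
    have h2 := Scheme.Hom.appLE_comp_appLE t πU S₀ U₁ R₁ hU₁le hRt
    have h3 : ∀ (f f' : R ⟶ S) (h : f = f') (e₁ : R₁ ≤ f ⁻¹ᵁ S₀) (e₂ : R₁ ≤ f' ⁻¹ᵁ S₀),
        f.appLE S₀ R₁ e₁ = f'.appLE S₀ R₁ e₂ := by
      rintro f _ rfl _ _
      rfl
    have h4 := h1.trans ((h3 _ _ hs _ _).trans h2.symm)
    rw [hσ, hτ, hβdef]
    have h5 := congrArg CommRingCat.Hom.hom h4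
    simpa only [CommRingCat.hom_comp] using h5
  have hτsm : τ.Smooth := by
    rw [hτ]
    exact HasRingHomProperty.appLE (P := @Smooth) t inferInstance ⟨U₁, hU₁⟩ ⟨R₁, hR₁⟩ hRt
  have hepi : ∀ (C : Type u) [CommRing C] (f₁ f₂ : Γ(R, R₁) →+* C), f₁.comp σ = f₂.comp σ →
      f₁.comp τ = f₂.comp τ → f₁ = f₂ := by
    intro C _ f₁ f₂ h1 h2
    have key : Spec.map (CommRingCat.ofHom f₁) ≫ hR₁.fromSpec =
        Spec.map (CommRingCat.ofHom f₂) ≫ hR₁.fromSpec := by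
      apply hmono
      · rw [Category.assoc, Category.assoc, ← eσ, ← Category.assoc, ← Category.assoc,
          ← Spec.map_comp, ← Spec.map_comp]
        congr 2
        apply CommRingCat.hom_ext
        simp only [CommRingCat.hom_comp, CommRingCat.hom_ofHom]
        exact h1
      · rw [Category.assoc, Category.assoc, ← eτ, ← Category.assoc, ← Category.assoc,
          ← Spec.map_comp, ← Spec.map_comp]
        congr 2
        apply CommRingCat.hom_ext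
        simp only [CommRingCat.hom_comp, CommRingCat.hom_ofHom]
        exact h2
    have h3 := (cancel_mono hR₁.fromSpec).mp key
    have h4 := Spec.map_injective h3
    exact congrArg CommRingCat.Hom.hom h4
  obtain ⟨q, hq⟩ : ∃ q : Spec Γ(R, R₁), hR₁.fromSpec q = e u₀ :=
    ⟨hR₁.primeIdealOf ⟨e u₀, hR₁mem⟩, hR₁.fromSpec_primeIdealOf ⟨e u₀, hR₁mem⟩⟩
  obtain ⟨r, P₀, N, α, ν, hr, hEt, n, r₁, hn, hr₁⟩ :=
    exists_affine_slice Γ(S, S₀) Γ(U, U₁) Γ(R, R₁) β σ τ hβ hτsm hepi q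
  -- abbreviations
  obtain ⟨σ', hσ'⟩ : ∃ σ' : Spec (CommRingCat.of (Localization.Away r)) ⟶
      Spec (CommRingCat.of Γ(U, U₁)),
      σ' = Spec.map (CommRingCat.ofHom ((algebraMap Γ(R, R₁) (Localization.Away r)).comp σ)) :=
    ⟨_, rfl⟩
  obtain ⟨τ', hτ'⟩ : ∃ τ' : Spec (CommRingCat.of (Localization.Away r)) ⟶
      Spec (CommRingCat.of Γ(U, U₁)),
      τ' = Spec.map (CommRingCat.ofHom ((algebraMap Γ(R, R₁) (Localization.Away r)).comp τ)) :=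
    ⟨_, rfl⟩
  rw [← hσ'] at hEt hn
  rw [← hτ'] at hEt hr₁
  obtain ⟨ιR, hιR⟩ : ∃ ιR : Spec (CommRingCat.of (Localization.Away r)) ⟶ R,
      ιR = Spec.map (CommRingCat.ofHom (algebraMap Γ(R, R₁) (Localization.Away r))) ≫
        hR₁.fromSpec := ⟨_, rfl⟩
  haveI : IsOpenImmersion ιR := by
    rw [hιR]
    infer_instance
  have hσιU : ιR ≫ s = σ' ≫ hU₁.fromSpec := by
    rw [hιR, hσ', Category.assoc, ← eσ, ← Category.assoc, ← Spec.map_comp]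
    rfl
  have hτιU : ιR ≫ t = τ' ≫ hU₁.fromSpec := by
    rw [hιR, hτ', Category.assoc, ← eτ, ← Category.assoc, ← Spec.map_comp]
    rfl
  have hcond : (pullback.snd ν (σ' ≫ α) ≫ σ') ≫ α = pullback.fst ν (σ' ≫ α) ≫ ν := by
    rw [Category.assoc]
    exact pullback.condition.symm
  have hk : pullback.lift (pullback.snd ν (σ' ≫ α) ≫ σ') (pullback.fst ν (σ' ≫ α)) hcond ≫
      pullback.fst α ν ≫ hU₁.fromSpec = (pullback.snd ν (σ' ≫ α) ≫ ιR) ≫ s := by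
    rw [← Category.assoc, pullback.lift_fst, Category.assoc, Category.assoc, hσιU]
  refine ⟨pullback α ν, pullback ν (σ' ≫ α), pullback.fst α ν ≫ hU₁.fromSpec,
    pullback.lift (pullback.snd ν (σ' ≫ α) ≫ σ') (pullback.fst ν (σ' ≫ α)) hcond,
    pullback.snd ν (σ' ≫ α) ≫ ιR, hk, ?_, ?_, ?_⟩
  · have sq := isPullback_slice α ν hU₁.fromSpec s ιR σ' hσιU
      (IsPullback.of_hasPullback α ν) (IsPullback.of_hasPullback ν (σ' ≫ α))
      (IsPullback.of_hasPullback (pullback.fst α ν ≫ hU₁.fromSpec) s)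
      (pullback.lift (pullback.snd ν (σ' ≫ α) ≫ σ') (pullback.fst ν (σ' ≫ α)) hcond)
      (pullback.lift_fst _ _ _) (pullback.lift_snd _ _ _)
      (pullback.lift _ _ hk) (pullback.lift_fst _ _ _) (pullback.lift_snd _ _ _)
    exact MorphismProperty.of_isPullback (P := @IsOpenImmersion) sq.flip inferInstance
  · haveI h1 : Etale (pullback.snd ν (σ' ≫ α) ≫ τ') :=
      hEt _ _ _ (IsPullback.of_hasPullback ν (σ' ≫ α))
    have h2 : (pullback.snd ν (σ' ≫ α) ≫ ιR) ≫ t =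
        (pullback.snd ν (σ' ≫ α) ≫ τ') ≫ hU₁.fromSpec := by
      rw [Category.assoc, hτιU, Category.assoc]
    rw [h2]
    infer_instance
  · obtain ⟨z, hz1, hz2⟩ := Scheme.Pullback.exists_preimage_pullback (f := ν) (g := σ' ≫ α)
      n r₁ hn
    refine ⟨z, ?_⟩
    have h2 : (pullback.snd ν (σ' ≫ α) ≫ ιR) ≫ t =
        pullback.snd ν (σ' ≫ α) ≫ τ' ≫ hU₁.fromSpec := by
      rw [Category.assoc, hτιU]
    rw [h2, Scheme.Hom.comp_apply, Scheme.Hom.comp_apply, hz2, hr₁, ← Scheme.Hom.comp_apply, eτ,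
      Scheme.Hom.comp_apply, hq, ← Scheme.Hom.comp_apply, het]
    rfl

end Groth.Agent.Helper2.SmBoot
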