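import Mathlib
import Groth.Agent.Lib.Helper2.AlgSp.GlueSp
import Groth.Agent.Lib.Helper2.AlgSp.Points
import Groth.Agent.Lib.Helper2.SmBoot.Slice
import Groth.Agent.Lib.Helper2.SmBoot.Saturate

/-!
# The smooth bootstrap (helper2)

A sheaf with representable diagonal and a smooth surjective chart from a scheme is an algebraic
space.
-/

set_option autoImplicit false
set_option maxHeartbeats 4000000
set_option synthInstance.maxHeartbeats 400000
set_option linter.style.haveILetI false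
set_option linter.unusedSectionVars false
set_option linter.unusedVariables false
set_option linter.unusedSimpArgs false
set_option linter.unnecessarySimpa false

open CategoryTheory CategoryTheory.Limits AlgebraicGeometry Opposite AlgSp

namespace Groth.Agent.Helper2.SmBoot

open Groth.Agent.Helper2.AlgSpBasic Groth.Agent.Helper2.EtaleLocal

universe u

variable {S : Scheme.{u}}

set_option backward.isDefEq.respectTransparency.types false in
/-- The slice criterion after restricting to an open of the slice covered by the étale part. -/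
theorem repWith_etale_of_slice' {F : Sp S} (hdiag : Representable (Limits.diag F))
    {U Z W E Z' : Over S} (c₀ : (yon S).obj U ⟶ F) (hsm : RepWith @Smooth c₀)
    (hsurj : RepWith @Surjective c₀) (g : Z ⟶ U) (q₁ : W ⟶ Z) (h : W ⟶ U)
    (sqW : IsPullback ((yon S).map q₁) ((yon S).map h) ((yon S).map g ≫ c₀) c₀)
    (j : E ⟶ W) [IsOpenImmersion j.left] [Etale (j ≫ h).left]
    (i : Z' ⟶ Z) [IsOpenImmersion i.left]
    (hrange : Set.range i.left ⊆ Set.range (j ≫ q₁).left) :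
    RepWith @Etale ((yon S).map (i ≫ g) ≫ c₀) := by
  obtain ⟨W', q₁', w', sqW'l⟩ : ∃ (W' : Over S) (q₁' : W' ⟶ Z') (w' : W' ⟶ W),
      IsPullback w'.left q₁'.left q₁.left i.left := by
    have hc : pullback.snd q₁.left i.left ≫ Z'.hom = pullback.fst q₁.left i.left ≫ W.hom := by
      rw [← Over.w i, ← Over.w q₁, ← Category.assoc, ← Category.assoc, pullback.condition]
    exact ⟨Over.mk (pullback.fst q₁.left i.left ≫ W.hom),
      Over.homMk (pullback.snd q₁.left i.left) hc,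
      Over.homMk (pullback.fst q₁.left i.left) rfl, IsPullback.of_hasPullback _ _⟩
  have sqW'y := yon_isPullback_of_left w' q₁' q₁ i sqW'l
  have sq1 := (sqW'y.paste_horiz sqW.flip).flip
  have sq2 : IsPullback ((yon S).map q₁') ((yon S).map (w' ≫ h)) ((yon S).map (i ≫ g) ≫ c₀)
      c₀ := by
    rw [(yon S).map_comp, (yon S).map_comp, Category.assoc]
    exact sq1
  haveI hetE : Etale (j.left ≫ h.left) := ‹Etale (j ≫ h).left›
  obtain ⟨E', j', hj'oi, hj'et, hj'surj⟩ : ∃ (E' : Over S) (j' : E' ⟶ W'),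
      IsOpenImmersion j'.left ∧ Etale (j' ≫ (w' ≫ h)).left ∧ Surjective (j' ≫ q₁').left := by
    have hc : (pullback.fst (j.left ≫ q₁.left) i.left ≫ j.left) ≫ q₁.left =
        pullback.snd (j.left ≫ q₁.left) i.left ≫ i.left := by
      rw [Category.assoc]
      exact pullback.condition
    obtain ⟨j'l, hj'l⟩ : ∃ j'l : pullback (j.left ≫ q₁.left) i.left ⟶ W'.left,
        j'l = sqW'l.lift (pullback.fst (j.left ≫ q₁.left) i.left ≫ j.left)
          (pullback.snd (j.left ≫ q₁.left) i.left) hc := ⟨_, rfl⟩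
    have h1 : j'l ≫ w'.left = pullback.fst (j.left ≫ q₁.left) i.left ≫ j.left := by
      rw [hj'l, sqW'l.lift_fst]
    have h2 : j'l ≫ q₁'.left = pullback.snd (j.left ≫ q₁.left) i.left := by
      rw [hj'l, sqW'l.lift_snd]
    have sq3 : IsPullback j'l (pullback.fst (j.left ≫ q₁.left) i.left) w'.left j.left := by
      refine IsPullback.of_right ?_ h1 sqW'l.flip
      rw [h2]
      exact (IsPullback.of_hasPullback (j.left ≫ q₁.left) i.left).flip
    refine ⟨Over.mk (j'l ≫ W'.hom), Over.homMk j'l rfl, ?_, ?_, ?_⟩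
    · show IsOpenImmersion j'l
      exact MorphismProperty.of_isPullback (P := @IsOpenImmersion) sq3.flip inferInstance
    · show Etale (j'l ≫ w'.left ≫ h.left)
      rw [← Category.assoc, h1, Category.assoc]
      infer_instance
    · show Surjective (j'l ≫ q₁'.left)
      rw [h2]
      refine ⟨fun z' => ?_⟩
      obtain ⟨x, hx⟩ := hrange ⟨z', rfl⟩
      have hx' : (j.left ≫ q₁.left) x = i.left z' := hx
      obtain ⟨p, -, hp⟩ := Scheme.Pullback.exists_preimage_pullback (f := j.left ≫ q₁.left)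
        (g := i.left) x z' hx'
      exact ⟨p, hp⟩
  haveI := hj'oi
  haveI := hj'et
  haveI := hj'surj
  exact repWith_etale_of_slice hdiag c₀ hsm hsurj (i ≫ g) q₁' (w' ≫ h) sq2 j'

set_option backward.isDefEq.respectTransparency.types false in
/-- Through the image of every point of the chart there is an étale slice. -/
theorem exists_etale_slice {F : Sp S} (hdiag : Representable (Limits.diag F)) {U : Over S}
    (c₀ : (yon S).obj U ⟶ F) (hsm : RepWith @Smooth c₀) (hsurj : RepWith @Surjective c₀)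
    (u₀ : U.left) :
    ∃ (Z' : Over S) (G : Z' ⟶ U), RepWith @Etale ((yon S).map G ≫ c₀) ∧
      ∃ z : Z'.left, Points.ofPt ((yon S).map G ≫ c₀) z = Points.ofPt c₀ u₀ := by
  obtain ⟨R, s, t, sqR⟩ := exists_isPullback_yon hdiag c₀ c₀
  haveI hts : Smooth t.left := hsm.property c₀ ((yon S).map s) t sqR
  obtain ⟨e, he⟩ := (yon S).map_surjective (sqR.lift (𝟙 _) (𝟙 _) rfl)
  have hes : e ≫ s = 𝟙 U := (yon S).map_injective (by
    rw [(yon S).map_comp, he, sqR.lift_fst, (yon S).map_id])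
  have het : e ≫ t = 𝟙 U := (yon S).map_injective (by
    rw [(yon S).map_comp, he, sqR.lift_snd, (yon S).map_id])
  have hesl : e.left ≫ s.left = 𝟙 U.left := by
    rw [← Over.comp_left, hes]
    rfl
  have hetl : e.left ≫ t.left = 𝟙 U.left := by
    rw [← Over.comp_left, het]
    rfl
  have hst : s.left ≫ U.hom = t.left ≫ U.hom := by
    rw [Over.w s, Over.w t]
  obtain ⟨Z, E, g, k₁, k₂, hk, hoi, hket, w, hw⟩ := exists_slice U.hom s.left t.left e.left hst
    hesl hetl (fun X f g h1 h2 => left_hom_ext_of_isPullback sqR f g h1 h2) u₀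
  haveI := hoi
  haveI := hket
  -- objects over `S`
  obtain ⟨Zₒ, gₒ, hZₒ, hgₒ⟩ : ∃ (Zₒ : Over S) (gₒ : Zₒ ⟶ U), Zₒ.left = Z ∧ HEq gₒ.left g :=
    ⟨Over.mk (g ≫ U.hom), Over.homMk g rfl, rfl, HEq.rfl⟩
  subst hZₒ
  have hgₒ' : gₒ.left = g := eq_of_heq hgₒ
  subst hgₒ'
  obtain ⟨Wₒ, q₁, r₂, sqWl⟩ : ∃ (Wₒ : Over S) (q₁ : Wₒ ⟶ Zₒ) (r₂ : Wₒ ⟶ R),
      IsPullback q₁.left r₂.left gₒ.left s.left ∧ True := by
    have hc : pullback.snd gₒ.left s.left ≫ R.hom = pullback.fst gₒ.left s.left ≫ Zₒ.hom := by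
      rw [← Over.w s, ← Over.w gₒ, ← Category.assoc, ← Category.assoc, pullback.condition]
    exact ⟨Over.mk (pullback.fst gₒ.left s.left ≫ Zₒ.hom),
      Over.homMk (pullback.fst gₒ.left s.left) rfl,
      Over.homMk (pullback.snd gₒ.left s.left) hc, IsPullback.of_hasPullback _ _, trivial⟩
  obtain ⟨sqWl, -⟩ := sqWl
  have sqWy := yon_isPullback_of_left q₁ r₂ gₒ s sqWl
  have sq1 := (sqWy.flip.paste_horiz sqR.flip).flip
  have sqW : IsPullback ((yon S).map q₁) ((yon S).map (r₂ ≫ t)) ((yon S).map gₒ ≫ c₀) c₀ := by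
    rw [(yon S).map_comp]
    exact sq1
  -- the open part
  obtain ⟨jl, hjl⟩ : ∃ jl : E ⟶ Wₒ.left, jl = sqWl.lift k₁ k₂ hk := ⟨_, rfl⟩
  have hjl₁ : jl ≫ q₁.left = k₁ := by rw [hjl, sqWl.lift_fst]
  have hjl₂ : jl ≫ r₂.left = k₂ := by rw [hjl, sqWl.lift_snd]
  haveI hjloi : IsOpenImmersion jl := by
    have h1 : jl = pullback.lift k₁ k₂ hk ≫ sqWl.isoPullback.inv := by
      apply sqWl.hom_ext
      · rw [hjl₁, Category.assoc, sqWl.isoPullback_inv_fst, pullback.lift_fst]
      · rw [hjl₂, Category.assoc, sqWl.isoPullback_inv_snd, pullback.lift_snd]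
    rw [h1]
    infer_instance
  obtain ⟨Eₒ, j, hEₒ, hj⟩ : ∃ (Eₒ : Over S) (j : Eₒ ⟶ Wₒ), Eₒ.left = E ∧ HEq j.left jl :=
    ⟨Over.mk (jl ≫ Wₒ.hom), Over.homMk jl rfl, rfl, HEq.rfl⟩
  subst hEₒ
  have hj' : j.left = jl := eq_of_heq hj
  haveI : IsOpenImmersion j.left := by
    rw [hj']
    exact hjloi
  have hjh : (j ≫ (r₂ ≫ t)).left = k₂ ≫ t.left := by
    show j.left ≫ r₂.left ≫ t.left = k₂ ≫ t.left
    rw [hj', ← Category.assoc, hjl₂]
  have hjq : (j ≫ q₁).left = k₁ := by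
    show j.left ≫ q₁.left = k₁
    rw [hj', hjl₁]
  haveI : Etale (j ≫ (r₂ ≫ t)).left := by
    rw [hjh]
    exact hket
  -- the open of the slice
  haveI : Smooth s.left := hsm.property c₀ ((yon S).map t) s sqR.flip
  haveI : Smooth q₁.left := MorphismProperty.of_isPullback (P := @Smooth) sqWl.flip inferInstance
  have hk₁open : IsOpen (Set.range k₁) := by
    rw [← hjl₁]
    exact (jl ≫ q₁.left).isOpenMap.isOpen_range
  obtain ⟨V, hV⟩ : ∃ V : Zₒ.left.Opens, (V : Set Zₒ.left) = Set.range k₁ :=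
    ⟨⟨_, hk₁open⟩, rfl⟩
  obtain ⟨Z', i, hioi, hirange⟩ : ∃ (Z' : Over S) (i : Z' ⟶ Zₒ), IsOpenImmersion i.left ∧
      Set.range i.left = Set.range k₁ := by
    refine ⟨Over.mk (V.ι ≫ Zₒ.hom), Over.homMk V.ι rfl, ?_, ?_⟩
    · show IsOpenImmersion V.ι
      infer_instance
    · show Set.range V.ι = Set.range k₁
      rw [Scheme.Opens.range_ι, hV]
  haveI := hioi
  have hrange : Set.range i.left ⊆ Set.range (j ≫ q₁).left := by
    rw [hirange, hjq]
  refine ⟨Z', i ≫ gₒ, repWith_etale_of_slice' hdiag c₀ hsm hsurj gₒ q₁ (r₂ ≫ t) sqW j i hrange,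
    ?_⟩
  obtain ⟨z, hz⟩ : k₁ w ∈ Set.range i.left := by
    rw [hirange]
    exact ⟨w, rfl⟩
  refine ⟨z, ?_⟩
  have e1 : Points.ofPt ((yon S).map (i ≫ gₒ) ≫ c₀) z = Points.ofPt ((yon S).map gₒ ≫ c₀) (k₁ w) := by
    rw [(yon S).map_comp, Category.assoc, ofPt_yon_map_comp, hz]
  have e2 : Points.ofPt ((yon S).map gₒ ≫ c₀) (k₁ w) =
      Points.ofPt ((yon S).map (j ≫ q₁) ≫ (yon S).map gₒ ≫ c₀) w := by
    have h1 := ofPt_yon_map_comp (j ≫ q₁) ((yon S).map gₒ ≫ c₀) w
    rw [hjq] at h1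
    exact h1.symm
  have e3 : (yon S).map (j ≫ q₁) ≫ (yon S).map gₒ ≫ c₀ =
      (yon S).map (j ≫ (r₂ ≫ t)) ≫ c₀ := by
    rw [(yon S).map_comp, (yon S).map_comp j, Category.assoc, Category.assoc, sqW.w]
  have e4 : Points.ofPt ((yon S).map (j ≫ (r₂ ≫ t)) ≫ c₀) w = Points.ofPt c₀ u₀ := by
    rw [ofPt_yon_map_comp, hjh, hw]
  rw [e1, e2, e3, e4]

end Groth.Agent.Helper2.SmBoot
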