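import Mathlib
import Groth.Agent.Lib.Helper2.Lqf.Boot99
import Groth.Agent.Lib.Helper2.SmBoot.Main

/-!
# The smooth bootstrap theorem (helper2)

An fppf sheaf with a smooth surjective cover, representable by algebraic spaces, from an algebraic
space, is an algebraic space.
-/

set_option autoImplicit false
set_option maxHeartbeats 4000000
set_option synthInstance.maxHeartbeats 400000
set_option linter.style.haveILetI false
set_option linter.unusedSectionVars false
set_option linter.unusedVariables false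
set_option linter.unusedSimpArgs false
set_option linter.unnecessarySimpa false

open CategoryTheory CategoryTheory.Limits AlgebraicGeometry Opposite AlgSp

namespace Groth.Agent.Helper2.SmBoot

open Groth.Agent.Helper2.AlgSpBasic Groth.Agent.Helper2.EtaleLocal Groth.Agent.Helper2.AlgSpDesc
open Groth.Agent.Helper2.Lqf Groth.Agent.Helper2

universe u

variable {S : Scheme.{u}}

theorem etale_le_smooth : (@Etale : MorphismProperty Scheme.{u}) ≤ @Smooth := by
  intro _ _ f hf
  haveI : Etale f := hf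
  infer_instance

theorem smooth_le_lft :
    (@Smooth : MorphismProperty Scheme.{u}) ≤ @LocallyOfFiniteType := by
  intro _ _ f hf
  haveI : Smooth f := hf
  infer_instance

/-- A sheaf with representable diagonal and a smooth surjective chart is an algebraic space. -/
theorem isAlgSpace_of_smooth_chart {F : Sp S} (hdiag : Representable (Limits.diag F))
    {U : Over S} (c₀ : (yon S).obj U ⟶ F) (hsm : RepWith @Smooth c₀)
    (hsurj : RepWith @Surjective c₀) : IsAlgSpace F := by
  choose Z' G hG hz using exists_etale_slice hdiag c₀ hsm hsurj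
  obtain ⟨p, hp⟩ := Coprod.exists_desc_sigmaOver Z' (fun u => (yon S).map (G u) ≫ c₀)
  refine ⟨hdiag, Coprod.sigmaOver Z', p, ?_, ?_⟩
  · exact GlueSp.repWith_of_source_openCover @Etale p Z' (Coprod.sigmaOverι Z')
      (fun u => inferInstance) (Coprod.sigmaOverι_covers Z') (fun u => by
        rw [hp u]
        exact hG u)
  · apply repWith_surjective_of_surjective_ofPt p
      (Functor.relativelyRepresentable.of_diag hdiag p)
    intro y
    obtain ⟨u, rfl⟩ := surjective_ofPt c₀ hsurj y
    obtain ⟨z, hz⟩ := hz u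
    refine ⟨(Coprod.sigmaOverι Z' u).left z, ?_⟩
    rw [← ofPt_yon_map_comp, hp u, hz]

/-- A smooth surjective chart from a scheme. -/
theorem exists_smooth_scheme_chart {F X : Sp S} (hX : IsAlgSpace X) (p : X ⟶ F)
    (hp : RepBySpWith (IsSurjectiveMor ⊓ LocP @Smooth) p.hom) :
    ∃ (U : Over S) (c₀ : (yon S).obj U ⟶ F), RepWith @Smooth c₀ ∧ RepWith @Surjective c₀ := by
  rw [repBySpWith_hom_iff] at hp
  obtain ⟨U, a, hae, has⟩ := hX.atlas
  have key : ∀ (T : Over S) (ξ : (yon S).obj T ⟶ F), ∃ (W : Over S)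
      (w₁ : (yon S).obj W ⟶ (yon S).obj U) (w₂ : W ⟶ T),
      IsPullback w₁ ((yon S).map w₂) (a ≫ p) ξ ∧ Smooth w₂.left ∧ Surjective w₂.left := by
    intro T ξ
    have sqP := IsPullback.of_hasPullback p ξ
    obtain ⟨hP, ⟨hPs, hPsm⟩⟩ := hp ξ _ _ sqP
    have sqQ := IsPullback.of_hasPullback a (pullback.fst p ξ)
    have sqB := sqQ.paste_vert sqP
    have hQ : IsAlgSpace (pullback a (pullback.fst p ξ)) :=
      isAlgSpace_of_isPullback hX.diag (IsAlgSpace.yon_obj U) hP a _ _ _ sqQ
    have ha'e : RepWith @Etale (pullback.snd a (pullback.fst p ξ)) :=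
      repWith_of_isPullback @Etale sqQ hae
    have ha's : RepWith @Surjective (pullback.snd a (pullback.fst p ξ)) :=
      repWith_of_isPullback @Surjective sqQ has
    have ha'l : LocP @Etale (pullback.snd a (pullback.fst p ξ)) :=
      locP_of_repWith @Etale hQ.diag _ ha'e
    have h1 : LocP @Smooth (pullback.snd a (pullback.fst p ξ) ≫ pullback.snd p ξ) :=
      locP_comp @Smooth hQ hP (IsAlgSpace.yon_obj T) _ _ (locP_mono etale_le_smooth ha'l) hPsm
    obtain ⟨W, ⟨e⟩⟩ := exists_iso_yon_of_jointly_mono_lft hQ (pullback.fst a (pullback.fst p ξ))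
      (pullback.snd a (pullback.fst p ξ) ≫ pullback.snd p ξ)
      (fun s t h1 h2 => sqB.hom_ext h1 h2) (locP_mono smooth_le_lft h1)
    obtain ⟨w₂, hw₂⟩ := (yon S).map_surjective
      (e.hom ≫ pullback.snd a (pullback.fst p ξ) ≫ pullback.snd p ξ)
    have hW := IsAlgSpace.yon_obj (S := S) W
    have hT := IsAlgSpace.yon_obj (S := S) T
    refine ⟨W, e.hom ≫ pullback.fst a (pullback.fst p ξ), w₂, ?_, ?_, ?_⟩
    · rw [hw₂]
      exact IsPullback.of_iso sqB e.symm (Iso.refl _) (Iso.refl _) (Iso.refl _) (by simp)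
        (by simp) (by simp) (by simp)
    · have h3 : LocP @Smooth ((yon S).map w₂) := by
        rw [hw₂]
        exact locP_comp @Smooth hW hQ hT e.hom _ (locP_of_isIso @Smooth hQ.diag e.hom) h1
      exact locP_yon_map h3
    · apply surjective_of_surjective_points_map
      rw [hw₂]
      intro y
      obtain ⟨y₁, hy₁⟩ := hPs y
      obtain ⟨y₂, hy₂⟩ := isSurjectiveMor_of_repWith_surjective _ ha's y₁
      refine ⟨Points.map e.inv y₂, ?_⟩
      rw [← Points.map_comp, Iso.inv_hom_id_assoc, Points.map_comp, hy₂, hy₁]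
  refine ⟨U, a ≫ p, ?_, ?_⟩
  · refine MorphismProperty.relative.of_exists fun T ξ => ?_
    obtain ⟨W, w₁, w₂, sq, h, -⟩ := key T ξ
    exact ⟨W, w₁, w₂, sq, h⟩
  · refine MorphismProperty.relative.of_exists fun T ξ => ?_
    obtain ⟨W, w₁, w₂, sq, -, h⟩ := key T ξ
    exact ⟨W, w₁, w₂, sq, h⟩

/-- **The smooth bootstrap.** -/
theorem isAlgSpace_of_smooth_cover {F X : Sp S} (hX : IsAlgSpace X) (p : X ⟶ F)
    (hp : RepBySpWith (IsSurjectiveMor ⊓ LocP @Smooth) p.hom) : IsAlgSpace F := by
  have hp' : RepBySpWith (IsSurjectiveMor ⊓ LocP @Flat ⊓ LocP @LocallyOfFinitePresentation)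
      p.hom := by
    rw [repBySpWith_hom_iff] at hp ⊢
    intro T ξ F' fst snd sq
    obtain ⟨h1, h2, h3⟩ := hp ξ fst snd sq
    exact ⟨h1, ⟨h2, locP_mono smooth_le_flat h3⟩, locP_mono smooth_le_lfp h3⟩
  have hdiag := representable_diag_of_fppf_cover hX p hp'
  obtain ⟨U, c₀, h1, h2⟩ := exists_smooth_scheme_chart hX p hp
  exact isAlgSpace_of_smooth_chart hdiag c₀ h1 h2

end Groth.Agent.Helper2.SmBoot
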