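import Mathlib
import Groth.Prelude.Def_AlgSpRep
import Groth.Agent.Lib.Helper2.AlgSp.QuotEff
import Groth.Agent.Lib.Helper2.AlgSp.GlueSp
import Groth.Agent.Lib.Helper2.SmBoot.Slice
import Groth.Agent.Lib.Helper2.SmBoot.Saturate

/-!
# The smooth slicing argument for presheaves (helper2)

Port of `SmBoot.Saturate` / `SmBoot.Main` from fppf sheaves with representable diagonal to
arbitrary presheaves `F` on `Over S` with a chart `c₀ : h_U ⟶ F` which is representable (by
schemes), smooth and surjective.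
-/

set_option autoImplicit false
set_option backward.isDefEq.respectTransparency.types false
set_option maxHeartbeats 4000000
set_option synthInstance.maxHeartbeats 400000
set_option linter.style.haveILetI false
set_option linter.unusedSectionVars false
set_option linter.unusedVariables false
set_option linter.unusedSimpArgs false
set_option linter.unnecessarySimpa false

open CategoryTheory CategoryTheory.Limits AlgebraicGeometry Opposite AlgSp

namespace Groth.Agent.Helper2.SmBootP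

open Groth.Agent.Helper2.AlgSpBasic Groth.Agent.Helper2.EtaleLocal Groth.Agent.Helper2.SmBoot

universe u

variable {S : Scheme.{u}}

/-- Maps of presheaves representable by schemes. -/
abbrev PRep : MorphismProperty (PSp S) := (pyon S).relativelyRepresentable

/-- Maps of presheaves representable by schemes with property `P`. -/
abbrev PRepWith (P : MorphismProperty Scheme.{u}) : MorphismProperty (PSp S) :=
  (P.inverseImage (Over.forget S)).relative (pyon S)

theorem pRepWith_pyon_map_iff (P : MorphismProperty Scheme.{u}) [P.IsStableUnderBaseChange]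
    {U V : Over S} (g : U ⟶ V) : PRepWith P ((pyon S).map g) ↔ P g.left :=
  MorphismProperty.relative_map_iff

theorem pRepWith_comp (P : MorphismProperty Scheme.{u}) [P.IsStableUnderBaseChange]
    [P.IsMultiplicative] {F G H : PSp S} {f : F ⟶ G} {g : G ⟶ H} (hf : PRepWith P f)
    (hg : PRepWith P g) : PRepWith P (f ≫ g) :=
  (PRepWith (S := S) P).comp_mem f g hf hg

theorem pRepWith_mono {P P' : MorphismProperty Scheme.{u}} (h : P ≤ P') {F G : PSp S}
    {f : F ⟶ G} (hf : PRepWith P f) : PRepWith P' f :=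
  MorphismProperty.relative_monotone (fun _ _ _ hg => h _ hg) _ hf

theorem pyon_isPullback_of_left {A B C D : Over S} (f : A ⟶ B) (g : A ⟶ C) (h : B ⟶ D)
    (i : C ⟶ D) (H : IsPullback f.left g.left h.left i.left) :
    IsPullback ((pyon S).map f) ((pyon S).map g) ((pyon S).map h) ((pyon S).map i) :=
  (over_isPullback_of_left f g h i H).map (pyon S)

theorem pRep_pyon_map_comp {F : PSp S} {U Z : Over S} (c₀ : (pyon S).obj U ⟶ F) (hc : PRep c₀)
    (g : Z ⟶ U) : PRep ((pyon S).map g ≫ c₀) :=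
  (PRep (S := S)).comp_mem _ _ (Functor.relativelyRepresentable.map _ g) hc

/-- Joint monicity of the projections of a fibre product over a presheaf, at the level of
schemes. -/
theorem left_hom_ext_of_isPullback_psh {F : PSp S} {A B P : Over S} {a : (pyon S).obj A ⟶ F}
    {b : (pyon S).obj B ⟶ F} {p₁ : P ⟶ A} {p₂ : P ⟶ B}
    (sq : IsPullback ((pyon S).map p₁) ((pyon S).map p₂) a b) {X : Scheme.{u}} (x y : X ⟶ P.left)
    (h₁ : x ≫ p₁.left = y ≫ p₁.left) (h₂ : x ≫ p₂.left = y ≫ p₂.left) : x = y := by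
  have hy : y ≫ P.hom = x ≫ P.hom := by
    rw [← Over.w p₁, ← Category.assoc, ← Category.assoc, h₁]
  obtain ⟨x', hx'⟩ : ∃ x' : Over.mk (x ≫ P.hom) ⟶ P, x'.left = x := ⟨Over.homMk x rfl, rfl⟩
  obtain ⟨y', hy'⟩ : ∃ y' : Over.mk (x ≫ P.hom) ⟶ P, y'.left = y := ⟨Over.homMk y hy, rfl⟩
  have hxy : x' = y' := by
    apply (pyon S).map_injective
    apply sq.hom_ext
    · rw [← (pyon S).map_comp, ← (pyon S).map_comp]
      congr 1
      apply Over.OverMorphism.ext
      rw [Over.comp_left, Over.comp_left, hx', hy']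
      exact h₁
    · rw [← (pyon S).map_comp, ← (pyon S).map_comp]
      congr 1
      apply Over.OverMorphism.ext
      rw [Over.comp_left, Over.comp_left, hx', hy']
      exact h₂
  rw [← hx', ← hy', hxy]

set_option backward.isDefEq.respectTransparency.types false in
/-- Descent of a property of the base change along a smooth surjective chart. -/
theorem pRepWith_of_cover_base {F : PSp S} {U Z W : Over S} (c₀ : (pyon S).obj U ⟶ F)
    (hsm : PRepWith @Smooth c₀) (hsurj : PRepWith @Surjective c₀)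
    (a : (pyon S).obj Z ⟶ F) (ha : PRep a) (q₁ : W ⟶ Z) (h : W ⟶ U)
    (sqW : IsPullback ((pyon S).map q₁) ((pyon S).map h) a c₀)
    (P : MorphismProperty Scheme.{u}) [P.IsStableUnderBaseChange]
    [P.IsLocalAtTarget Scheme.fppfPrecoverage] (hP : P h.left) : PRepWith P a := by
  refine ⟨ha, fun T V g fst snd hpb => ?_⟩
  show P snd.left
  have hc : PRep c₀ := hsm.rep
  obtain ⟨T', v, u', sqT⟩ : ∃ (T' : Over S) (v : T' ⟶ T) (u' : T' ⟶ U),
      IsPullback ((pyon S).map u') ((pyon S).map v) c₀ g :=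
    ⟨hc.pullback g, hc.snd g, hc.fst' g, hc.isPullback' g⟩
  haveI : Smooth v.left := hsm.property g _ _ sqT
  haveI : Surjective v.left := hsurj.property g _ _ sqT
  refine MorphismProperty.IsLocalAtTarget.of_forall_pullbackSnd (K := Scheme.fppfPrecoverage)
    (R := Presieve.singleton v.left) v.left.singleton_mem_fppfPrecoverage ?_
  rintro _ _ _ ⟨⟩
  have hc1 : pullback.fst snd.left v.left ≫ V.hom = pullback.snd snd.left v.left ≫ T'.hom := by
    rw [← Over.w snd, ← Over.w v, ← Category.assoc, ← Category.assoc, pullback.condition]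
  obtain ⟨V', fst', snd', hsnd', sqVl⟩ : ∃ (V' : Over S) (fst' : V' ⟶ V) (snd' : V' ⟶ T'),
      (P snd'.left → P (pullback.snd snd.left v.left)) ∧
        IsPullback fst'.left snd'.left snd.left v.left :=
    ⟨Over.mk (pullback.snd snd.left v.left ≫ T'.hom),
      Over.homMk (pullback.fst snd.left v.left) hc1,
      Over.homMk (pullback.snd snd.left v.left) rfl, fun h => h, IsPullback.of_hasPullback _ _⟩
  apply hsnd'
  have sqV := pyon_isPullback_of_left fst' snd' snd v sqVl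
  have sq1 : IsPullback ((pyon S).map fst' ≫ fst) ((pyon S).map snd') a
      ((pyon S).map v ≫ g) := sqV.paste_horiz hpb
  have h2 : (pyon S).map v ≫ g = (pyon S).map u' ≫ c₀ := sqT.w.symm
  rw [h2] at sq1
  have hcomm : ((pyon S).map fst' ≫ fst) ≫ a = ((pyon S).map snd' ≫ (pyon S).map u') ≫ c₀ :=
    sq1.w.trans (Category.assoc _ _ _).symm
  obtain ⟨l, hl⟩ : ∃ l : (pyon S).obj V' ⟶ (pyon S).obj W, l = sqW.lift _ _ hcomm := ⟨_, rfl⟩
  have hl1 : l ≫ (pyon S).map q₁ = (pyon S).map fst' ≫ fst := by rw [hl, sqW.lift_fst]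
  have hl2 : l ≫ (pyon S).map h = (pyon S).map snd' ≫ (pyon S).map u' := by
    rw [hl, sqW.lift_snd]
  have h3 : IsPullback l ((pyon S).map snd') ((pyon S).map h) ((pyon S).map u') := by
    refine IsPullback.of_right ?_ hl2 sqW
    rw [hl1]
    exact sq1
  exact ((pRepWith_pyon_map_iff P h).2 hP).property ((pyon S).map u') l snd' h3

set_option backward.isDefEq.respectTransparency.types false in
theorem pRepWith_etale_of_slice {F : PSp S}
    {U Z W E : Over S} (c₀ : (pyon S).obj U ⟶ F) (hsm : PRepWith @Smooth c₀)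
    (hsurj : PRepWith @Surjective c₀) (g : Z ⟶ U) (q₁ : W ⟶ Z) (h : W ⟶ U)
    (sqW : IsPullback ((pyon S).map q₁) ((pyon S).map h) ((pyon S).map g ≫ c₀) c₀)
    (j : E ⟶ W) [IsOpenImmersion j.left] [Etale (j ≫ h).left] [Surjective (j ≫ q₁).left] :
    PRepWith @Etale ((pyon S).map g ≫ c₀) := by
  have harep0 : PRep ((pyon S).map g ≫ c₀) := pRep_pyon_map_comp c₀ hsm.rep g
  obtain ⟨a, ha⟩ : ∃ a : (pyon S).obj Z ⟶ F, a = (pyon S).map g ≫ c₀ := ⟨_, rfl⟩
  rw [← ha] at sqW harep0 ⊢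
  have harep : PRep a := harep0
  haveI hq₁ : Smooth q₁.left := hsm.property a ((pyon S).map h) q₁ sqW.flip
  haveI hk₀sm : Smooth (j ≫ q₁).left := by
    rw [Over.comp_left]
    infer_instance
  -- (i) `h` is smooth
  haveI hh : Smooth h.left := by
    obtain ⟨Pₒ, p₁, p₂, hp₂, sqPo⟩ : ∃ (Pₒ : Over S) (p₁ : Pₒ ⟶ E) (p₂ : Pₒ ⟶ W),
        (Surjective p₂.left ∧ Smooth p₂.left) ∧
        IsPullback ((pyon S).map p₁) ((pyon S).map p₂) ((pyon S).map (j ≫ q₁)) ((pyon S).map q₁) := by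
      have hc : pullback.fst (j ≫ q₁).left q₁.left ≫ E.hom =
          pullback.snd (j ≫ q₁).left q₁.left ≫ W.hom := by
        rw [← Over.w (j ≫ q₁), ← Over.w q₁, ← Category.assoc, ← Category.assoc,
          pullback.condition]
      refine ⟨Over.mk (pullback.snd (j ≫ q₁).left q₁.left ≫ W.hom),
        Over.homMk (pullback.fst (j ≫ q₁).left q₁.left) hc,
        Over.homMk (pullback.snd (j ≫ q₁).left q₁.left) rfl,
        ⟨(inferInstance : Surjective (pullback.snd (j ≫ q₁).left q₁.left)),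
          (inferInstance : Smooth (pullback.snd (j ≫ q₁).left q₁.left))⟩, ?_⟩
      apply pyon_isPullback_of_left
      exact IsPullback.of_hasPullback (j ≫ q₁).left q₁.left
    have sq1 := sqPo.flip.paste_horiz sqW.flip
    have heq : (pyon S).map (j ≫ q₁) ≫ a = (pyon S).map (j ≫ h) ≫ c₀ := by
      rw [(pyon S).map_comp, (pyon S).map_comp, Category.assoc, Category.assoc, sqW.w]
    have hsmE : PRepWith @Smooth ((pyon S).map (j ≫ h) ≫ c₀) :=
      pRepWith_comp @Smooth ((pRepWith_pyon_map_iff @Smooth _).2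
        (by
          show Smooth (j ≫ h).left
          infer_instance)) hsm
    have sq2 : IsPullback ((pyon S).map p₁) ((pyon S).map (p₂ ≫ h)) ((pyon S).map (j ≫ h) ≫ c₀)
        c₀ := by
      rw [← heq, (pyon S).map_comp]
      exact sq1.flip
    have hsmP : Smooth (p₂ ≫ h).left := hsmE.property c₀ ((pyon S).map p₁) (p₂ ≫ h) sq2
    haveI : Smooth (p₂.left ≫ h.left) := hsmP
    haveI : Surjective p₂.left := hp₂.1
    haveI : Smooth p₂.left := hp₂.2
    exact Groth.Agent.Helper3.FppfDesc.smooth_of_fppf_cover p₂.left h.left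
  have hsma : PRepWith @Smooth a :=
    pRepWith_of_cover_base c₀ hsm hsurj a harep q₁ h sqW @Smooth hh
  -- the fibre square of `a`
  obtain ⟨Q, κ₁, κ₂, sqQ⟩ : ∃ (Q : Over S) (κ₁ κ₂ : Q ⟶ Z),
      IsPullback ((pyon S).map κ₁) ((pyon S).map κ₂) a a :=
    ⟨harep.pullback a, harep.fst' a, harep.snd a, harep.isPullback' a⟩
  haveI hκ₂ : Smooth κ₂.left := hsma.property a ((pyon S).map κ₁) κ₂ sqQ
  obtain ⟨Δ, hΔ⟩ := (pyon S).map_surjective (sqQ.lift (𝟙 _) (𝟙 _) rfl)
  have hΔ₁ : Δ ≫ κ₁ = 𝟙 Z := (pyon S).map_injective (by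
    rw [(pyon S).map_comp, hΔ, sqQ.lift_fst, (pyon S).map_id])
  have hΔ₂ : Δ ≫ κ₂ = 𝟙 Z := (pyon S).map_injective (by
    rw [(pyon S).map_comp, hΔ, sqQ.lift_snd, (pyon S).map_id])
  have hΔ₁l : Δ.left ≫ κ₁.left = 𝟙 Z.left := by
    rw [← Over.comp_left, hΔ₁]
    rfl
  have hΔ₂l : Δ.left ≫ κ₂.left = 𝟙 Z.left := by
    rw [← Over.comp_left, hΔ₂]
    rfl
  -- `W ×_U W`
  obtain ⟨W₂, φ₁, φ₂, sqW₂l⟩ : ∃ (W₂ : Over S) (φ₁ φ₂ : W₂ ⟶ W),
      IsPullback φ₁.left φ₂.left h.left h.left := by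
    have hc : pullback.snd h.left h.left ≫ W.hom = pullback.fst h.left h.left ≫ W.hom := by
      rw [← Over.w h, ← Category.assoc, ← Category.assoc, pullback.condition]
    exact ⟨Over.mk (pullback.fst h.left h.left ≫ W.hom),
      Over.homMk (pullback.fst h.left h.left) rfl,
      Over.homMk (pullback.snd h.left h.left) hc, IsPullback.of_hasPullback h.left h.left⟩
  have hφ : φ₁ ≫ h = φ₂ ≫ h := Over.OverMorphism.ext sqW₂l.w
  have sqW₂ := pyon_isPullback_of_left φ₁ φ₂ h h sqW₂l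
  have hprc : (pyon S).map (φ₁ ≫ q₁) ≫ a = (pyon S).map (φ₂ ≫ q₁) ≫ a := by
    rw [(pyon S).map_comp, (pyon S).map_comp, Category.assoc, Category.assoc, sqW.w,
      ← Category.assoc, ← Category.assoc, ← (pyon S).map_comp, ← (pyon S).map_comp, hφ]
  obtain ⟨pr, hpr⟩ := (pyon S).map_surjective (sqQ.lift _ _ hprc)
  have hpr₁ : pr ≫ κ₁ = φ₁ ≫ q₁ := (pyon S).map_injective (by
    rw [(pyon S).map_comp, hpr, sqQ.lift_fst])
  have hpr₂ : pr ≫ κ₂ = φ₂ ≫ q₁ := (pyon S).map_injective (by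
    rw [(pyon S).map_comp, hpr, sqQ.lift_snd])
  have hpr₁l : pr.left ≫ κ₁.left = φ₁.left ≫ q₁.left := by
    rw [← Over.comp_left, hpr₁]
    rfl
  have hpr₂l : pr.left ≫ κ₂.left = φ₂.left ≫ q₁.left := by
    rw [← Over.comp_left, hpr₂]
    rfl
  have hyφ₁ : ∀ {A : PSp S} (m : A ⟶ (pyon S).obj W₂),
      (m ≫ (pyon S).map φ₁) ≫ (pyon S).map q₁ = (m ≫ (pyon S).map pr) ≫ (pyon S).map κ₁ := by
    intro A m
    rw [Category.assoc, Category.assoc, ← (pyon S).map_comp, ← (pyon S).map_comp, hpr₁]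
  have hyφ₂ : ∀ {A : PSp S} (m : A ⟶ (pyon S).obj W₂),
      (m ≫ (pyon S).map φ₂) ≫ (pyon S).map q₁ = (m ≫ (pyon S).map pr) ≫ (pyon S).map κ₂ := by
    intro A m
    rw [Category.assoc, Category.assoc, ← (pyon S).map_comp, ← (pyon S).map_comp, hpr₂]
  have sqPr : IsPullback ((pyon S).map pr) ((pyon S).map (φ₁ ≫ h)) ((pyon S).map κ₁ ≫ a) c₀ := by
    refine isPullback_of_existsUnique' ?_ ?_ ?_
    · rw [← Category.assoc, ← (pyon S).map_comp, hpr₁, (pyon S).map_comp, Category.assoc, sqW.w,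
        ← Category.assoc, ← (pyon S).map_comp]
    · intro A α β hαβ
      have c1 : (α ≫ (pyon S).map κ₁) ≫ a = β ≫ c₀ := by
        rw [Category.assoc]
        exact hαβ
      have c2 : (α ≫ (pyon S).map κ₂) ≫ a = β ≫ c₀ := by
        rw [Category.assoc, ← sqQ.w]
        exact hαβ
      have c3 : sqW.lift (α ≫ (pyon S).map κ₁) β c1 ≫ (pyon S).map h =
          sqW.lift (α ≫ (pyon S).map κ₂) β c2 ≫ (pyon S).map h := by
        rw [sqW.lift_snd, sqW.lift_snd]
      refine ⟨sqW₂.lift _ _ c3, ?_, ?_⟩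
      · apply sqQ.hom_ext
        · rw [← hyφ₁, sqW₂.lift_fst, sqW.lift_fst]
        · rw [← hyφ₂, sqW₂.lift_snd, sqW.lift_fst]
      · rw [(pyon S).map_comp, ← Category.assoc, sqW₂.lift_fst, sqW.lift_snd]
    · intro A l l' h1 h2
      have h2' : (l ≫ (pyon S).map φ₁) ≫ (pyon S).map h = (l' ≫ (pyon S).map φ₁) ≫ (pyon S).map h := by
        rw [Category.assoc, Category.assoc, ← (pyon S).map_comp]
        exact h2
      have h2'' : (l ≫ (pyon S).map φ₂) ≫ (pyon S).map h =
          (l' ≫ (pyon S).map φ₂) ≫ (pyon S).map h := by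
        rw [Category.assoc, Category.assoc, ← (pyon S).map_comp, ← hφ]
        exact h2
      apply sqW₂.hom_ext
      · apply sqW.hom_ext
        · rw [hyφ₁, hyφ₁, h1]
        · exact h2'
      · apply sqW.hom_ext
        · rw [hyφ₂, hyφ₂, h1]
        · exact h2''
  haveI hprsm : Smooth pr.left :=
    hsm.property ((pyon S).map κ₁ ≫ a) ((pyon S).map (φ₁ ≫ h)) pr sqPr.flip
  -- the open part
  haveI hetE : Etale (j.left ≫ h.left) := ‹Etale (j ≫ h).left›
  haveI hsurjE : Surjective (j.left ≫ q₁.left) := ‹Surjective (j ≫ q₁).left›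
  obtain ⟨j₂, hj₂f₁, hj₂f₂, hj₂oi⟩ :
      ∃ j₂ : pullback (j.left ≫ h.left) (j.left ≫ h.left) ⟶ W₂.left,
      j₂ ≫ φ₁.left = pullback.fst (j.left ≫ h.left) (j.left ≫ h.left) ≫ j.left ∧
      j₂ ≫ φ₂.left = pullback.snd (j.left ≫ h.left) (j.left ≫ h.left) ≫ j.left ∧
      IsOpenImmersion j₂ := by
    haveI h1 : IsOpenImmersion (pullback.map (j.left ≫ h.left) (j.left ≫ h.left) h.left h.left
        j.left j.left (𝟙 _) ((Category.comp_id _).trans rfl) ((Category.comp_id _).trans rfl)) :=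
      MorphismProperty.pullbackMap (P := @IsOpenImmersion) (f := j.left ≫ h.left)
        (g := j.left ≫ h.left) (f' := h.left) (g' := h.left) (i₁ := j.left) (i₂ := j.left)
        inferInstance inferInstance rfl rfl
    refine ⟨pullback.map (j.left ≫ h.left) (j.left ≫ h.left) h.left h.left
        j.left j.left (𝟙 _) ((Category.comp_id _).trans rfl) ((Category.comp_id _).trans rfl) ≫
        sqW₂l.isoPullback.inv, ?_, ?_, ?_⟩
    · rw [Category.assoc, sqW₂l.isoPullback_inv_fst]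
      exact pullback.lift_fst _ _ _
    · rw [Category.assoc, sqW₂l.isoPullback_inv_snd]
      exact pullback.lift_snd _ _ _
    · infer_instance
  haveI := hj₂oi
  have hcomm : (j.left ≫ q₁.left) ≫ Δ.left =
      pullback.diagonal (j.left ≫ h.left) ≫ j₂ ≫ pr.left := by
    apply left_hom_ext_of_isPullback_psh sqQ
    · have e1 : (pullback.diagonal (j.left ≫ h.left) ≫ j₂ ≫ pr.left) ≫ κ₁.left =
          j.left ≫ q₁.left := by
        rw [Category.assoc, Category.assoc, hpr₁l, ← Category.assoc j₂, hj₂f₁, Category.assoc,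
          ← Category.assoc, pullback.diagonal_fst, Category.id_comp]
      have e2 : ((j.left ≫ q₁.left) ≫ Δ.left) ≫ κ₁.left = j.left ≫ q₁.left := by
        rw [Category.assoc, hΔ₁l, Category.comp_id]
      exact e2.trans e1.symm
    · have e1 : (pullback.diagonal (j.left ≫ h.left) ≫ j₂ ≫ pr.left) ≫ κ₂.left =
          j.left ≫ q₁.left := by
        rw [Category.assoc, Category.assoc, hpr₂l, ← Category.assoc j₂, hj₂f₂, Category.assoc,
          ← Category.assoc, pullback.diagonal_snd, Category.id_comp]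
      have e2 : ((j.left ≫ q₁.left) ≫ Δ.left) ≫ κ₂.left = j.left ≫ q₁.left := by
        rw [Category.assoc, hΔ₂l, Category.comp_id]
      exact e2.trans e1.symm
  haveI : Flat ((j.left ≫ q₁.left) ≫ Δ.left) := by
    rw [hcomm]
    infer_instance
  haveI hΔfl : Flat Δ.left := flat_of_flat_comp_of_surjective (j.left ≫ q₁.left) Δ.left
  haveI hΔlfp : LocallyOfFinitePresentation Δ.left :=
    Groth.Agent.Helper2.locallyOfFinitePresentation_of_comp Δ.left κ₂.left inferInstance (by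
      rw [hΔ₂l]
      infer_instance)
  haveI hΔmono : Mono Δ.left := mono_of_mono_fac hΔ₂l
  haveI hΔoi : IsOpenImmersion Δ.left := IsOpenImmersion.of_flat_of_mono _
  -- the diagonal of `h`
  have sqΔ : IsPullback q₁.left (sqW₂l.lift (𝟙 W.left) (𝟙 W.left) rfl) Δ.left pr.left := by
    refine isPullback_of_existsUnique' ?_ ?_ ?_
    · apply left_hom_ext_of_isPullback_psh sqQ
      · rw [Category.assoc, Category.assoc, hΔ₁l, hpr₁l, ← Category.assoc, sqW₂l.lift_fst,
          Category.id_comp, Category.comp_id]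
      · rw [Category.assoc, Category.assoc, hΔ₂l, hpr₂l, ← Category.assoc, sqW₂l.lift_snd,
          Category.id_comp, Category.comp_id]
    · intro X xZ x₂ hx
      have e1 : (x₂ ≫ φ₁.left) ≫ q₁.left = xZ := by
        rw [Category.assoc, ← hpr₁l, ← Category.assoc, ← hx, Category.assoc, hΔ₁l,
          Category.comp_id]
      have e2 : (x₂ ≫ φ₂.left) ≫ q₁.left = xZ := by
        rw [Category.assoc, ← hpr₂l, ← Category.assoc, ← hx, Category.assoc, hΔ₂l,
          Category.comp_id]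
      have hf : x₂ ≫ φ₁.left = x₂ ≫ φ₂.left := by
        apply left_hom_ext_of_isPullback_psh sqW
        · rw [e1, e2]
        · rw [Category.assoc, Category.assoc, sqW₂l.w]
      refine ⟨x₂ ≫ φ₁.left, e1, ?_⟩
      apply sqW₂l.hom_ext
      · rw [Category.assoc, sqW₂l.lift_fst, Category.comp_id]
      · rw [Category.assoc, sqW₂l.lift_snd, Category.comp_id, hf]
    · intro X l l' _ h2
      have h3 := congrArg (fun m => m ≫ φ₁.left) h2
      simp only [Category.assoc, sqW₂l.lift_fst, Category.comp_id] at h3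
      exact h3
  haveI hdiagoi : IsOpenImmersion (sqW₂l.lift (𝟙 W.left) (𝟙 W.left) rfl) :=
    MorphismProperty.of_isPullback (P := @IsOpenImmersion) sqΔ inferInstance
  have hdiageq : pullback.diagonal h.left =
      sqW₂l.lift (𝟙 W.left) (𝟙 W.left) rfl ≫ sqW₂l.isoPullback.hom := by
    apply pullback.hom_ext
    · rw [pullback.diagonal_fst, Category.assoc, sqW₂l.isoPullback_hom_fst, sqW₂l.lift_fst]
    · rw [pullback.diagonal_snd, Category.assoc, sqW₂l.isoPullback_hom_snd, sqW₂l.lift_snd]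
  haveI : IsOpenImmersion (pullback.diagonal h.left) := by
    rw [hdiageq]
    infer_instance
  haveI : FormallyUnramified h.left := inferInstance
  haveI : Etale h.left := Etale.of_formallyUnramified_of_flat h.left
  exact pRepWith_of_cover_base c₀ hsm hsurj a harep q₁ h sqW @Etale inferInstance


set_option backward.isDefEq.respectTransparency.types false in
/-- The slice criterion after restricting to an open of the slice covered by the étale part. -/
theorem pRepWith_etale_of_slice' {F : PSp S}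
    {U Z W E Z' : Over S} (c₀ : (pyon S).obj U ⟶ F) (hsm : PRepWith @Smooth c₀)
    (hsurj : PRepWith @Surjective c₀) (g : Z ⟶ U) (q₁ : W ⟶ Z) (h : W ⟶ U)
    (sqW : IsPullback ((pyon S).map q₁) ((pyon S).map h) ((pyon S).map g ≫ c₀) c₀)
    (j : E ⟶ W) [IsOpenImmersion j.left] [Etale (j ≫ h).left]
    (i : Z' ⟶ Z) [IsOpenImmersion i.left]
    (hrange : Set.range i.left ⊆ Set.range (j ≫ q₁).left) :
    PRepWith @Etale ((pyon S).map (i ≫ g) ≫ c₀) := by
  obtain ⟨W', q₁', w', sqW'l⟩ : ∃ (W' : Over S) (q₁' : W' ⟶ Z') (w' : W' ⟶ W),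
      IsPullback w'.left q₁'.left q₁.left i.left := by
    have hc : pullback.snd q₁.left i.left ≫ Z'.hom = pullback.fst q₁.left i.left ≫ W.hom := by
      rw [← Over.w i, ← Over.w q₁, ← Category.assoc, ← Category.assoc, pullback.condition]
    exact ⟨Over.mk (pullback.fst q₁.left i.left ≫ W.hom),
      Over.homMk (pullback.snd q₁.left i.left) hc,
      Over.homMk (pullback.fst q₁.left i.left) rfl, IsPullback.of_hasPullback _ _⟩
  have sqW'y := pyon_isPullback_of_left w' q₁' q₁ i sqW'l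
  have sq1 := (sqW'y.paste_horiz sqW.flip).flip
  have sq2 : IsPullback ((pyon S).map q₁') ((pyon S).map (w' ≫ h)) ((pyon S).map (i ≫ g) ≫ c₀)
      c₀ := by
    rw [(pyon S).map_comp, (pyon S).map_comp, Category.assoc]
    exact sq1
  haveI hetE : Etale (j.left ≫ h.left) := ‹Etale (j ≫ h).left›
  obtain ⟨E', j', hj'oi, hj'et, hj'surj⟩ : ∃ (E' : Over S) (j' : E' ⟶ W'),
      IsOpenImmersion j'.left ∧ Etale (j' ≫ (w' ≫ h)).left ∧ Surjective (j' ≫ q₁').left := by
    have hc : (pullback.fst (j.left ≫ q₁.left) i.left ≫ j.left) ≫ q₁.left =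
        pullback.snd (j.left ≫ q₁.left) i.left ≫ i.left := by
      rw [Category.assoc]
      exact pullback.condition
    obtain ⟨j'l, hj'l⟩ : ∃ j'l : pullback (j.left ≫ q₁.left) i.left ⟶ W'.left,
        j'l = sqW'l.lift (pullback.fst (j.left ≫ q₁.left) i.left ≫ j.left)
          (pullback.snd (j.left ≫ q₁.left) i.left) hc := ⟨_, rfl⟩
    have h1 : j'l ≫ w'.left = pullback.fst (j.left ≫ q₁.left) i.left ≫ j.left := by
      rw [hj'l, sqW'l.lift_fst]
    have h2 : j'l ≫ q₁'.left = pullback.snd (j.left ≫ q₁.left) i.left := by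
      rw [hj'l, sqW'l.lift_snd]
    have sq3 : IsPullback j'l (pullback.fst (j.left ≫ q₁.left) i.left) w'.left j.left := by
      refine IsPullback.of_right ?_ h1 sqW'l.flip
      rw [h2]
      exact (IsPullback.of_hasPullback (j.left ≫ q₁.left) i.left).flip
    refine ⟨Over.mk (j'l ≫ W'.hom), Over.homMk j'l rfl, ?_, ?_, ?_⟩
    · show IsOpenImmersion j'l
      exact MorphismProperty.of_isPullback (P := @IsOpenImmersion) sq3.flip inferInstance
    · show Etale (j'l ≫ w'.left ≫ h.left)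
      rw [← Category.assoc, h1, Category.assoc]
      infer_instance
    · show Surjective (j'l ≫ q₁'.left)
      rw [h2]
      refine ⟨fun z' => ?_⟩
      obtain ⟨x, hx⟩ := hrange ⟨z', rfl⟩
      have hx' : (j.left ≫ q₁.left) x = i.left z' := hx
      obtain ⟨p, -, hp⟩ := Scheme.Pullback.exists_preimage_pullback (f := j.left ≫ q₁.left)
        (g := i.left) x z' hx'
      exact ⟨p, hp⟩
  haveI := hj'oi
  haveI := hj'et
  haveI := hj'surj
  exact pRepWith_etale_of_slice c₀ hsm hsurj (i ≫ g) q₁' (w' ≫ h) sq2 j'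

set_option backward.isDefEq.respectTransparency.types false in
/-- Through the image of every point of the chart there is an étale slice. -/
theorem exists_etale_slice_psh {F : PSp S} {U : Over S}
    (c₀ : (pyon S).obj U ⟶ F) (hsm : PRepWith @Smooth c₀) (hsurj : PRepWith @Surjective c₀)
    (u₀ : U.left) :
    ∃ (Z' : Over S) (G : Z' ⟶ U), PRepWith @Etale ((pyon S).map G ≫ c₀) ∧
      ∃ (E' : Over S) (e₁ : E' ⟶ Z') (e₂ : E' ⟶ U),
        (pyon S).map e₁ ≫ ((pyon S).map G ≫ c₀) = (pyon S).map e₂ ≫ c₀ ∧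
          u₀ ∈ Set.range e₂.left := by
  have hc₀rep : PRep c₀ := hsm.rep
  obtain ⟨R, s, t, sqR⟩ : ∃ (R : Over S) (s t : R ⟶ U),
      IsPullback ((pyon S).map s) ((pyon S).map t) c₀ c₀ :=
    ⟨hc₀rep.pullback c₀, hc₀rep.fst' c₀, hc₀rep.snd c₀, hc₀rep.isPullback' c₀⟩
  haveI hts : Smooth t.left := hsm.property c₀ ((pyon S).map s) t sqR
  obtain ⟨e, he⟩ := (pyon S).map_surjective (sqR.lift (𝟙 _) (𝟙 _) rfl)
  have hes : e ≫ s = 𝟙 U := (pyon S).map_injective (by
    rw [(pyon S).map_comp, he, sqR.lift_fst, (pyon S).map_id])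
  have het : e ≫ t = 𝟙 U := (pyon S).map_injective (by
    rw [(pyon S).map_comp, he, sqR.lift_snd, (pyon S).map_id])
  have hesl : e.left ≫ s.left = 𝟙 U.left := by
    rw [← Over.comp_left, hes]
    rfl
  have hetl : e.left ≫ t.left = 𝟙 U.left := by
    rw [← Over.comp_left, het]
    rfl
  have hst : s.left ≫ U.hom = t.left ≫ U.hom := by
    rw [Over.w s, Over.w t]
  obtain ⟨Z, E, g, k₁, k₂, hk, hoi, hket, w, hw⟩ := exists_slice U.hom s.left t.left e.left hst
    hesl hetl (fun X f g h1 h2 => left_hom_ext_of_isPullback_psh sqR f g h1 h2) u₀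
  haveI := hoi
  haveI := hket
  -- objects over `S`
  obtain ⟨Zₒ, gₒ, hZₒ, hgₒ⟩ : ∃ (Zₒ : Over S) (gₒ : Zₒ ⟶ U), Zₒ.left = Z ∧ HEq gₒ.left g :=
    ⟨Over.mk (g ≫ U.hom), Over.homMk g rfl, rfl, HEq.rfl⟩
  subst hZₒ
  have hgₒ' : gₒ.left = g := eq_of_heq hgₒ
  subst hgₒ'
  obtain ⟨Wₒ, q₁, r₂, sqWl⟩ : ∃ (Wₒ : Over S) (q₁ : Wₒ ⟶ Zₒ) (r₂ : Wₒ ⟶ R),
      IsPullback q₁.left r₂.left gₒ.left s.left ∧ True := by
    have hc : pullback.snd gₒ.left s.left ≫ R.hom = pullback.fst gₒ.left s.left ≫ Zₒ.hom := by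
      rw [← Over.w s, ← Over.w gₒ, ← Category.assoc, ← Category.assoc, pullback.condition]
    exact ⟨Over.mk (pullback.fst gₒ.left s.left ≫ Zₒ.hom),
      Over.homMk (pullback.fst gₒ.left s.left) rfl,
      Over.homMk (pullback.snd gₒ.left s.left) hc, IsPullback.of_hasPullback _ _, trivial⟩
  obtain ⟨sqWl, -⟩ := sqWl
  have sqWy := pyon_isPullback_of_left q₁ r₂ gₒ s sqWl
  have sq1 := (sqWy.flip.paste_horiz sqR.flip).flip
  have sqW : IsPullback ((pyon S).map q₁) ((pyon S).map (r₂ ≫ t)) ((pyon S).map gₒ ≫ c₀) c₀ := by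
    rw [(pyon S).map_comp]
    exact sq1
  -- the open part
  obtain ⟨jl, hjl⟩ : ∃ jl : E ⟶ Wₒ.left, jl = sqWl.lift k₁ k₂ hk := ⟨_, rfl⟩
  have hjl₁ : jl ≫ q₁.left = k₁ := by rw [hjl, sqWl.lift_fst]
  have hjl₂ : jl ≫ r₂.left = k₂ := by rw [hjl, sqWl.lift_snd]
  haveI hjloi : IsOpenImmersion jl := by
    have h1 : jl = pullback.lift k₁ k₂ hk ≫ sqWl.isoPullback.inv := by
      apply sqWl.hom_ext
      · rw [hjl₁, Category.assoc, sqWl.isoPullback_inv_fst, pullback.lift_fst]
      · rw [hjl₂, Category.assoc, sqWl.isoPullback_inv_snd, pullback.lift_snd]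
    rw [h1]
    infer_instance
  obtain ⟨Eₒ, j, hEₒ, hj⟩ : ∃ (Eₒ : Over S) (j : Eₒ ⟶ Wₒ), Eₒ.left = E ∧ HEq j.left jl :=
    ⟨Over.mk (jl ≫ Wₒ.hom), Over.homMk jl rfl, rfl, HEq.rfl⟩
  subst hEₒ
  have hj' : j.left = jl := eq_of_heq hj
  haveI : IsOpenImmersion j.left := by
    rw [hj']
    exact hjloi
  have hjh : (j ≫ (r₂ ≫ t)).left = k₂ ≫ t.left := by
    show j.left ≫ r₂.left ≫ t.left = k₂ ≫ t.left
    rw [hj', ← Category.assoc, hjl₂]
  have hjq : (j ≫ q₁).left = k₁ := by
    show j.left ≫ q₁.left = k₁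
    rw [hj', hjl₁]
  haveI : Etale (j ≫ (r₂ ≫ t)).left := by
    rw [hjh]
    exact hket
  -- the open of the slice
  haveI : Smooth s.left := hsm.property c₀ ((pyon S).map t) s sqR.flip
  haveI : Smooth q₁.left := MorphismProperty.of_isPullback (P := @Smooth) sqWl.flip inferInstance
  have hk₁open : IsOpen (Set.range k₁) := by
    rw [← hjl₁]
    exact (jl ≫ q₁.left).isOpenMap.isOpen_range
  obtain ⟨V, hV⟩ : ∃ V : Zₒ.left.Opens, (V : Set Zₒ.left) = Set.range k₁ :=
    ⟨⟨_, hk₁open⟩, rfl⟩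
  obtain ⟨Z', i, hioi, hirange⟩ : ∃ (Z' : Over S) (i : Z' ⟶ Zₒ), IsOpenImmersion i.left ∧
      Set.range i.left = Set.range k₁ := by
    refine ⟨Over.mk (V.ι ≫ Zₒ.hom), Over.homMk V.ι rfl, ?_, ?_⟩
    · show IsOpenImmersion V.ι
      infer_instance
    · show Set.range V.ι = Set.range k₁
      rw [Scheme.Opens.range_ι, hV]
  haveI := hioi
  have hrange : Set.range i.left ⊆ Set.range (j ≫ q₁).left := by
    rw [hirange, hjq]
  refine ⟨Z', i ≫ gₒ, pRepWith_etale_of_slice' c₀ hsm hsurj gₒ q₁ (r₂ ≫ t) sqW j i hrange, ?_⟩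
  have hsub : Set.range k₁ ⊆ Set.range i.left := by
    rw [hirange]
  obtain ⟨e₁l, he₁l⟩ : ∃ e₁l : Eₒ.left ⟶ Z'.left, e₁l ≫ i.left = k₁ :=
    ⟨IsOpenImmersion.lift i.left k₁ hsub, IsOpenImmersion.lift_fac _ _ _⟩
  have he₁w : e₁l ≫ Z'.hom = Eₒ.hom := by
    rw [← Over.w i, ← Category.assoc, he₁l, ← hjq, Over.w]
  obtain ⟨e₁, he₁⟩ : ∃ e₁ : Eₒ ⟶ Z', e₁.left = e₁l := ⟨Over.homMk e₁l he₁w, rfl⟩
  have he₁i : e₁ ≫ i = j ≫ q₁ := by
    apply Over.OverMorphism.ext
    rw [Over.comp_left, he₁, he₁l, hjq]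
  refine ⟨Eₒ, e₁, j ≫ (r₂ ≫ t), ?_, ?_⟩
  · have e3 : (pyon S).map (j ≫ q₁) ≫ (pyon S).map gₒ ≫ c₀ =
        (pyon S).map (j ≫ (r₂ ≫ t)) ≫ c₀ := by
      rw [(pyon S).map_comp, (pyon S).map_comp j, Category.assoc, Category.assoc, sqW.w]
    rw [← e3, ← he₁i]
    simp only [Functor.map_comp, Category.assoc]
  · rw [hjh]
    exact ⟨w, hw⟩


set_option backward.isDefEq.respectTransparency.types false in
/-- A presheaf with a representable smooth surjective chart from a scheme has a representable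
étale surjective chart from a scheme, factoring through the given chart. -/
theorem exists_etale_chart_psh {F : PSp S} {U : Over S}
    (c₀ : (pyon S).obj U ⟶ F) (hsm : PRepWith @Smooth c₀) (hsurj : PRepWith @Surjective c₀) :
    ∃ (Sg : Over S) (D : Sg ⟶ U), PRepWith @Etale ((pyon S).map D ≫ c₀) ∧
      PRepWith @Surjective ((pyon S).map D ≫ c₀) := by
  choose Z' G hG E' e₁ e₂ he hrange using exists_etale_slice_psh c₀ hsm hsurj
  obtain ⟨D, hD⟩ : ∃ D : Coprod.sigmaOver Z' ⟶ U, ∀ u, Coprod.sigmaOverι Z' u ≫ D = G u := by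
    obtain ⟨p, hp⟩ := Coprod.exists_desc_sigmaOver Z' (fun u => (yon S).map (G u))
    obtain ⟨D, rfl⟩ := (yon S).map_surjective p
    refine ⟨D, fun u => (yon S).map_injective ?_⟩
    rw [(yon S).map_comp]
    exact hp u
  have hc : PRep c₀ := hsm.rep
  have harep0 : PRep ((pyon S).map D ≫ c₀) := pRep_pyon_map_comp c₀ hc D
  obtain ⟨a, ha⟩ : ∃ a : (pyon S).obj (Coprod.sigmaOver Z') ⟶ F, a = (pyon S).map D ≫ c₀ :=
    ⟨_, rfl⟩
  refine ⟨Coprod.sigmaOver Z', D, ?_⟩
  rw [← ha] at harep0 ⊢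
  have hιa : ∀ u, (pyon S).map (Coprod.sigmaOverι Z' u) ≫ a = (pyon S).map (G u) ≫ c₀ := by
    intro u
    rw [ha, ← Category.assoc, ← (pyon S).map_comp, hD u]
  obtain ⟨W, q₁, h, sqW⟩ : ∃ (W : Over S) (q₁ : W ⟶ Coprod.sigmaOver Z') (h : W ⟶ U),
      IsPullback ((pyon S).map q₁) ((pyon S).map h) a c₀ :=
    ⟨hc.pullback a, hc.snd a, hc.fst' a, (hc.isPullback' a).flip⟩
  -- the open cover of `W`
  have sqk : ∀ k, IsPullback (pullback.fst q₁ (Coprod.sigmaOverι Z' k))
      (pullback.snd q₁ (Coprod.sigmaOverι Z' k)) q₁ (Coprod.sigmaOverι Z' k) :=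
    fun k => IsPullback.of_hasPullback _ _
  have hoi : ∀ k, IsOpenImmersion (pullback.fst q₁ (Coprod.sigmaOverι Z' k)).left := fun k =>
    MorphismProperty.of_isPullback (P := @IsOpenImmersion)
      ((sqk k).map (Over.forget S)).flip (inferInstance : IsOpenImmersion
        (Coprod.sigmaOverι Z' k).left)
  have hEt : Etale h.left := by
    let 𝒲 : Scheme.OpenCover.{u} W.left :=
      Scheme.Cover.mkOfCovers U.left (fun k => (pullback q₁ (Coprod.sigmaOverι Z' k)).left)
        (fun k => (pullback.fst q₁ (Coprod.sigmaOverι Z' k)).left)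
        (fun x => by
          obtain ⟨k, y, hy⟩ := Coprod.sigmaOverι_covers Z' (q₁.left x)
          obtain ⟨z, hz, -⟩ := Groth.Agent.Helper2.Coprod.exists_point_of_isPullback_scheme
            ((sqk k).map (Over.forget S)) x y hy.symm
          exact ⟨k, z, hz⟩) hoi
    refine IsZariskiLocalAtSource.of_openCover (P := @Etale) 𝒲 fun k => ?_
    have hbig := ((sqk k).map (pyon S)).paste_horiz sqW.flip
    rw [hιa k, ← Functor.map_comp] at hbig
    exact (hG k).property c₀ _ _ hbig.flip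
  have hSurj : Surjective h.left := by
    refine ⟨fun u₀ => ?_⟩
    obtain ⟨w, hw⟩ := hrange u₀
    have hcomm : (pyon S).map (e₁ u₀ ≫ Coprod.sigmaOverι Z' u₀) ≫ a =
        (pyon S).map (e₂ u₀) ≫ c₀ := by
      rw [(pyon S).map_comp, Category.assoc, hιa u₀]
      exact he u₀
    obtain ⟨l', hl'⟩ := (pyon S).map_surjective (sqW.lift _ _ hcomm)
    have hl'h : l' ≫ h = e₂ u₀ := (pyon S).map_injective (by
      rw [(pyon S).map_comp, hl', sqW.lift_snd])
    refine ⟨l'.left w, ?_⟩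
    have h1 : (l' ≫ h).left w = u₀ := by
      rw [hl'h]
      exact hw
    exact h1
  exact ⟨pRepWith_of_cover_base c₀ hsm hsurj a harep0 q₁ h sqW @Etale hEt,
    pRepWith_of_cover_base c₀ hsm hsurj a harep0 q₁ h sqW @Surjective hSurj⟩

end Groth.Agent.Helper2.SmBootP
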