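import Mathlib
import Groth.Agent.Lib.Helper2.SmBoot.PshSlice

/-!
# Smooth surjective morphisms have sections étale locally (helper2)
-/

set_option autoImplicit false
set_option backward.isDefEq.respectTransparency.types false
set_option maxHeartbeats 4000000
set_option synthInstance.maxHeartbeats 400000
set_option linter.style.haveILetI false
set_option linter.unusedSectionVars false
set_option linter.unusedVariables false
set_option linter.unusedSimpArgs false
set_option linter.unnecessarySimpa false

open CategoryTheory CategoryTheory.Limits AlgebraicGeometry Opposite AlgSp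

namespace Groth.Agent.Helper2.SmBootP

open Groth.Agent.Helper2.AlgSpBasic Groth.Agent.Helper2.EtaleLocal Groth.Agent.Helper2.SmBoot

universe u

variable {S : Scheme.{u}}

/-- A smooth surjective morphism of schemes over `S` admits a section after an étale surjective
base change (in the form: a scheme mapping to the source, étale and surjective over the
target). -/
theorem exists_etale_surjective_over {T V : Over S} (v : V ⟶ T) [Smooth v.left]
    [Surjective v.left] :
    ∃ (W : Over S) (D : W ⟶ V), Etale (D ≫ v).left ∧ Surjective (D ≫ v).left := by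
  have hsm : PRepWith @Smooth ((pyon S).map v) :=
    (pRepWith_pyon_map_iff @Smooth v).2 inferInstance
  have hsurj : PRepWith @Surjective ((pyon S).map v) :=
    (pRepWith_pyon_map_iff @Surjective v).2 inferInstance
  obtain ⟨Sg, D, hE, hS⟩ := exists_etale_chart_psh ((pyon S).map v) hsm hsurj
  rw [← (pyon S).map_comp] at hE hS
  exact ⟨Sg, D, (pRepWith_pyon_map_iff @Etale _).1 hE, (pRepWith_pyon_map_iff @Surjective _).1 hS⟩

/-- A smooth surjective morphism of schemes `f : X ⟶ Y` admits `g : W ⟶ X` with `g ≫ f` étale
and surjective. -/
theorem exists_etale_surjective_comp {X Y : Scheme.{u}} (f : X ⟶ Y) [Smooth f] [Surjective f] :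
    ∃ (W : Scheme.{u}) (g : W ⟶ X), Etale (g ≫ f) ∧ Surjective (g ≫ f) := by
  obtain ⟨v, hv⟩ : ∃ v : Over.mk f ⟶ Over.mk (𝟙 Y), v.left = f :=
    ⟨Over.homMk f (Category.comp_id _), rfl⟩
  haveI : Smooth v.left := by rw [hv]; infer_instance
  haveI : Surjective v.left := by rw [hv]; infer_instance
  obtain ⟨W, D, hE, hS⟩ := exists_etale_surjective_over v
  have e : D.left ≫ f = (D ≫ v).left := by
    rw [Over.comp_left, hv]
  refine ⟨W.left, D.left, ?_, ?_⟩
  · rw [e]
    exact hE
  · rw [e]
    exact hS

end Groth.Agent.Helper2.SmBootP
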